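import Cfsg.Agent.SFT.D
import Cfsg.Agent.Comp.Hyper
import Cfsg.Agent.PF.FT
import Cfsg.Agent.Inv.Strong
import Cfsg.Agent.S1292
import Cfsg.Agent.S0111
/-!
The dichotomy theorem, reduced to the theorem on cores of strongly embedded subgroups.
-/
set_option autoImplicit false
set_option linter.unusedSectionVars false

namespace Cfsg.Agent.SFT
open Subgroup Cfsg.Agent.BG PHom
open Cfsg.Agent.Comp (SF Fam MaxQ Opq Opp PLay)

universe u
variable {G : Type u} [Group G] [Finite G] {A B H Q S T U : Subgroup G} {a b g k s t u w x z : G}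
  {θ : G → Subgroup G}

/-- Involutions. -/
structure Iv (t : G) : Prop where
  sq : t * t = 1
  ne : t ≠ 1

theorem iv_iff : Iv t ↔ orderOf t = 2 :=
  ⟨fun h => orderOf_of_pow Nat.prime_two (by rw [sq, h.sq]) h.ne, fun h =>
    ⟨by rw [← sq, ← h, pow_orderOf_eq_one], fun e => by simp [e] at h⟩⟩

theorem Iv.inv (h : Iv t) : t⁻¹ = t := inv_eq_of_mul_eq_one_right h.sq

theorem Iv.cj (h : Iv t) (g : G) : Iv (g * t * g⁻¹) :=
  ⟨by rw [conj_mul, h.sq]; group, by simpa using h.ne⟩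

theorem Iv.mem (h : Iv t) (hx : x ∈ zpowers t) : x = 1 ∨ x = t := by
  obtain ⟨n, rfl⟩ := hx
  have e : t ^ (2 : ℤ) = 1 := by rw [zpow_two, h.sq]
  rcases Int.even_or_odd' n with ⟨m, rfl | rfl⟩
  · left; simp only; rw [zpow_mul, e, one_zpow]
  · right; simp only; rw [zpow_add, zpow_mul, e, one_zpow, zpow_one, one_mul]

theorem iv_of (hA : Abelem 2 A) (ha : a ∈ A) (h1 : a ≠ 1) : Iv a := ⟨sq a ▸ hA.pow a ha, h1⟩

theorem Iv.ab (h : Iv t) : Abelem 2 (zpowers t) := abelem_zpowers (by rw [pow_two, h.sq])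

/-- The group generated by two elements. -/
abbrev V4 (a b : G) : Subgroup G := zpowers a ⊔ zpowers b

theorem V4_l : a ∈ V4 a b := mem_sup_left (mem_zpowers a)
theorem V4_r : b ∈ V4 a b := mem_sup_right (mem_zpowers b)
theorem V4_le (h1 : a ∈ H) (h2 : b ∈ H) : V4 a b ≤ H := sup_le (zpowers_le.2 h1) (zpowers_le.2 h2)
theorem C_V4 (h1 : x * a = a * x) (h2 : x * b = b * x) : x ∈ C[V4 a b] := by
  rw [C_sup, C_zpowers, C_zpowers]; exact ⟨mem_C1.2 h1, mem_C1.2 h2⟩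

theorem V4_ab (ha : Iv a) (hb : Iv b) (c : a * b = b * a) : Abelem 2 (V4 a b) :=
  ha.ab.sup hb.ab (by rw [C_zpowers]; exact zpowers_le.2 (mem_C1.2 c))

theorem V4_mem (ha : Iv a) (hb : Iv b) (c : a * b = b * a) (hx : x ∈ V4 a b) :
    x = 1 ∨ x = a ∨ x = b ∨ x = a * b := by
  obtain ⟨y, h1, v, h2, rfl⟩ := (mem_sup_r (cents_norm (by
    rw [C_zpowers]; exact zpowers_le.2 (mem_C1.2 c)))).1 hx
  rcases ha.mem h1 with rfl | rfl <;> rcases hb.mem h2 with rfl | rfl <;> simp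

theorem card_sup_iv (hA : Abelem 2 A) (h : x * x = 1) (c : x ∈ C[A]) (n : x ∉ A) : #(A ⊔ zpowers x) = #A * 2 :=
  Comp.card_sup_zpowers_elemAb (abelem_iff.1 hA) (by rw [sq, h]) c n

theorem V4_card (ha : Iv a) (hb : Iv b) (c : a * b = b * a) (n : b ≠ a) : #(V4 a b) = 2 ^ 2 := by
  rw [card_sup_iv ha.ab hb.sq (by rw [C_zpowers]; exact mem_C1.2 c.symm) fun e => (ha.mem e).elim hb.ne n,
    card_zpowers', iv_iff.1 ha]; rfl

theorem idx2 (h : A ≤ B) (c : #B ≤ #A * 2) (ha : a ∈ B) (hb : b ∈ B) (na : a ∉ A) (nb : b ∉ A) : a * b ∈ A := by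
  have e := card_mul_relIndex h
  have p := card_pos A
  have : A.relIndex B = 2 := by
    have h1 : A.relIndex B ≠ 1 := fun f => na (relIndex_eq_one.1 f ha)
    have h2 := relIndex_pos A B
    have h3 : A.relIndex B ≤ 2 := Nat.le_of_mul_le_mul_left (e ▸ c) p
    omega
  exact (mul_mem_iff_of_index_two (H := A.subgroupOf B) this (a := ⟨a, ha⟩) (b := ⟨b, hb⟩)).2
    ⟨fun f => absurd f na, fun f => absurd f nb⟩

/-- `⟨z, u⟩` is a normal four-subgroup of `T`. -/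
structure NF (T : Subgroup G) (z u : G) : Prop where
  iz : Iv z
  iu : Iv u
  ne : u ≠ z
  zT : z ∈ T
  uT : u ∈ T
  zc : ∀ s ∈ T, s * z = z * s
  uc : ∀ s ∈ T, s * u = u * s ∨ s * u = z * u * s

theorem NF.comm (h : NF T z u) : z * u = u * z := (h.zc u h.uT).symm
theorem NF.ab (h : NF T z u) : Abelem 2 (V4 z u) := V4_ab h.iz h.iu h.comm
theorem NF.card (h : NF T z u) : #(V4 z u) = 2 ^ 2 := V4_card h.iz h.iu h.comm h.ne
theorem NF.le (h : NF T z u) : V4 z u ≤ T := V4_le h.zT h.uT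

theorem NF.norm (h : NF T z u) : T ≤ N[V4 z u] := fun s hs => mem_N_of_cj_le (by
  rw [cj_sup, cj_zpowers, cj_zpowers, h.zc s hs, mul_inv_cancel_right]
  refine V4_le V4_l ?_
  rcases h.uc s hs with e | e <;> rw [e, mul_inv_cancel_right]
  exacts [V4_r, mul_mem V4_l V4_r])

theorem NF.alt (h : NF T z u) : NF T z (z * u) := by
  refine ⟨h.iz, ⟨?_, fun e => h.ne ?_⟩, by simpa using h.iu.ne, h.zT, mul_mem h.zT h.uT, h.zc, fun s hs => ?_⟩
  · rw [mul_assoc, ← mul_assoc u, ← h.comm, mul_assoc, h.iu.sq, mul_one, h.iz.sq]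
  · rw [eq_inv_of_mul_eq_one_right e, h.iz.inv]
  · rw [← mul_assoc, h.zc s hs, mul_assoc]
    rcases h.uc s hs with e | e <;> rw [e] <;> simp [mul_assoc]

theorem exNF (hT : PiG {2} T) (hA : Abelem 2 A) (h : A ≤ T) (h3 : 2 ^ 3 ≤ #A) : ∃ z u, NF T z u := by
  obtain ⟨A', rfl⟩ := exists_lift h
  have p := hT.pg Nat.prime_two
  rw [card_map_inj (subtype_injective T)] at h3
  obtain ⟨U, n, e, c⟩ := Comp.exists_normal_sq_of_rank p
    (abelem_iff.1 ((abelem_map_inj (subtype_injective T)).1 hA)) h3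
  obtain ⟨z, z1, z2, z3⟩ := Comp.exists_mem_center_elemAb p (E := U) (Comp.ne_bot_of_pow_le (by omega) c.ge)
  have e' := abelem_iff.2 e
  obtain ⟨u, u1, u2⟩ := Comp.exists_not_mem_zpowers c.ge (e'.pow z z1)
  have iz := iv_of e' z1 z2
  have iu := iv_of e' u1 fun f => u2 (f ▸ one_mem _)
  have cm := mem_C_comm e'.abel z1 u1
  have zc : ∀ s, s * z = z * s := mem_center_iff.1 z3
  refine ⟨z, u, ⟨by exact_mod_cast iz.sq, by exact_mod_cast iz.ne⟩, ⟨by exact_mod_cast iu.sq, by exact_mod_cast iu.ne⟩,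
    fun f => u2 (Subtype.ext f ▸ mem_zpowers _), z.2, u.2, fun s hs => congrArg Subtype.val (zc ⟨s, hs⟩), fun s hs => ?_⟩
  have m := n.conj_mem u u1 ⟨s, hs⟩
  rw [← Comp.eq_sup_zpowers_of_card e c.le z1 z2 u1 u2] at m
  rcases V4_mem iz iu cm m with f | f | f | f
  · exact absurd f (iu.cj _).ne
  · refine absurd ?_ u2
    rw [mul_inv_eq_iff_eq_mul, ← zc, mul_left_cancel_iff] at f
    exact f ▸ mem_zpowers _
  · exact .inl (congrArg Subtype.val (mul_inv_eq_iff_eq_mul.1 f))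
  · exact .inr (congrArg Subtype.val (mul_inv_eq_iff_eq_mul.1 f))

theorem NF.half (h : NF T z u) (hA : A ≤ T) : #A ≤ #(A ⊓ C1[u]) * 2 := by
  rw [← card_inf_mul_relIndex C1[u] A, inf_comm]
  refine Nat.mul_le_mul_left _ (Nat.le_of_dvd two_pos (relIndex_dvd_two_iff.2 ?_))
  by_cases c : A ≤ C1[u]
  · exact ⟨1, one_mem _, fun b hb => .inr (c hb)⟩
  obtain ⟨a, ha, n⟩ := SetLike.not_le_iff_exists.1 c
  refine ⟨a, ha, fun b hb => (h.uc b (hA hb)).symm.imp (fun e => mem_C1.2 ?_) mem_C1.2⟩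
  rw [mul_assoc, (h.uc a (hA ha)).resolve_left fun f => n (mem_C1.2 f), ← mul_assoc, ← mul_assoc, h.zc b (hA hb),
    mul_assoc z, e, ← mul_assoc, ← mul_assoc, h.iz.sq, one_mul, mul_assoc]

theorem NF.cent (h : NF T z u) : T ⊓ C1[u] ≤ C[V4 z u] := fun s hs => C_V4 (h.zc s hs.1) (mem_C1.1 hs.2)

theorem NF.rank (h : NF T z u) (hA : Abelem 2 A) (h1 : A ≤ T) (h3 : 2 ^ 3 ≤ #A) :
    ∃ B ≤ T ⊓ C1[u], Abelem 2 B ∧ 2 ^ 3 ≤ #B ∧ V4 z u ≤ B := by
  have c := h.half h1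
  have l : V4 z u ≤ T ⊓ C1[u] := le_inf h.le (h.ab.abel.trans (C_le_C1 V4_r))
  have d : Abelem 2 (A ⊓ C1[u] ⊔ V4 z u) :=
    (hA.of_le inf_le_left).sup h.ab ((inf_le_inf_right _ h1).trans h.cent)
  refine ⟨_, sup_le (inf_le_inf_right _ h1) l, d, ?_, le_sup_right⟩
  by_contra k
  have := Comp.card_le_pow_of_lt ((d.pig Nat.prime_two).pg Nat.prime_two) (not_le.1 k)
  have e : A ⊓ C1[u] = A ⊓ C1[u] ⊔ V4 z u := eq_of_card_le le_sup_left (by omega)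
  have : A ≤ C1[u] := hA.abel.trans (C_le_C1 (e.ge (le_sup_right (a := A ⊓ C1[u]) V4_r)).1)
  rw [← e, inf_eq_left.2 this] at k
  exact k h3

theorem NF.gen (h : NF T z u) (f : EF 2 θ) (hA : Abelem 2 A) (h1 : A ≤ T) (h3 : 2 ^ 3 ≤ #A) :
    Gen A θ = Gen (V4 z u) θ := by
  have c := h.half h1
  rw [← f.gen_eq hA h3 (E := A ⊓ C1[u]) inf_le_left (by omega)]
  exact f.gen_comm (hA.of_le inf_le_left) h.ab (by omega) h.card.ge ((inf_le_inf_right _ h1).trans h.cent)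

theorem EF.gen_T (f : EF 2 θ) (hT : PiG {2} T) (hA : Abelem 2 A) (h1 : A ≤ T) (h3 : 2 ^ 3 ≤ #A)
    (hB : Abelem 2 B) (h2 : B ≤ T) (h4 : 2 ^ 3 ≤ #B) : Gen A θ = Gen B θ := by
  obtain ⟨z, u, h⟩ := exNF hT hA h1 h3
  rw [h.gen f hA h1 h3, h.gen f hB h2 h4]

theorem lemL (hL : PLay 2 H = ⊥) (hQ : Syl 2 Q (Opq 2 H)) (hx : x * x = 1) (xH : x ∈ H) (hc : H ≤ C1[x])
    (hw : w ∈ H) (h : ∀ q ∈ Q, q * w = w * q ∨ q * w = x * w * q) : w ∈ Opq 2 H := by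
  set O := Opp 2 H
  set R := zpowers x ⊔ O
  have nO : H ≤ N[O] := Comp.Opp_normal H
  have OH : O ≤ H := Comp.Opp_le
  have nR : H ≤ N[R] := normY (norm_zpowers hc) nO
  have RH : R ≤ H := sup_le (zpowers_le.2 xH) OH
  have qH : Opq 2 H ≤ H := Comp.Opq_le
  have d : H ≤ (quo R).dom := nR
  set K := H ⊓ (quo R).pre C[Opq 2 H ÷ R]
  have mK : ∀ Y ≤ H, Y ≤ K ↔ ⁅Y, Opq 2 H⁆ ≤ R := fun Y hY => by
    rw [le_inf_iff, le_pre_iff (hY.trans d), quo_cent_iff (hY.trans nR) (qH.trans nR)]; exact and_iff_right hY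
  have wK : zpowers w ≤ K := (mK _ (zpowers_le.2 hw)).2 (by
    rw [← quo_cent_iff ((zpowers_le.2 hw).trans nR) (qH.trans nR), im_zpowers (d hw), zpowers_le]
    have : Opq 2 H ÷ R ≤ Q ÷ R := (quo_le_iff (qH.trans nR) (hQ.le.trans (qH.trans nR))).2
      ((Comp.SylIn.Opq_le (Comp.sylIn_iff.2 ((syl_iff Nat.prime_two).1 hQ))).trans (sup_le_sup_left le_sup_right _))
    refine centS this (mem_C.2 fun a ha => ?_)
    obtain ⟨q, hq, dq, rfl⟩ := mem_im.1 ha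
    have x1 : (quo R).app x = 1 := (mem_ker.1 (by rw [quo_ker]; exact mem_sup_left (mem_zpowers x))).2
    rw [← app_mul dq (d hw), ← app_mul (d hw) dq]
    rcases h q hq with e | e <;> rw [e]
    rw [mul_assoc, app_mul (d xH) (mul_mem (d hw) dq), x1, one_mul])
  refine Comp.le_Opq (N := K) inf_le_left (normI (normG H) (norm_pre d (normC (im_norm (Comp.Opq_normal H)))))
    (fun k hk => ?_) (wK (mem_zpowers w))
  have k2 : ∀ y ∈ Opq 2 H, ∀ n, (k ^ 2) ^ n * y * ((k ^ 2) ^ n)⁻¹ * y⁻¹ ∈ O := fun y hy n => by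
    have e : (k ^ 2) * y * (k ^ 2)⁻¹ * y⁻¹ ∈ O := by
      obtain ⟨a, ha, o, ho, e⟩ := (mem_sup_r ((zpowers_le.2 xH).trans nO)).1
        ((mK _ (zpowers_le.2 hk.1)).1 (zpowers_le.2 hk) (comm_mem (mem_zpowers k) hy))
      have c : ∀ g ∈ H, g * a = a * g := fun g hg => mem_C1.1 (C1_le_of_mem_zpowers ha (hc hg))
      have a2 : a * a = 1 := by rw [← pow_two]; exact (abelem_zpowers (by rw [pow_two, hx])).pow a ha
      have : k ^ 2 * y * (k ^ 2)⁻¹ * y⁻¹ = k * (a * o) * k⁻¹ * (a * o) := by rw [← e, pow_two]; group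
      rw [this, ← mul_assoc k, c k hk.1, mul_assoc a, mul_assoc a,
        ← c _ (mul_mem (mul_mem hk.1 (OH ho)) (inv_mem hk.1)), mul_assoc _ a, ← mul_assoc a, a2, one_mul]
      exact mul_mem (conj_mem (nO hk.1) ho) ho
    induction n with
    | zero => simp
    | succ n ih =>
      have : (k ^ 2) ^ (n + 1) * y * ((k ^ 2) ^ (n + 1))⁻¹ * y⁻¹ =
        k ^ 2 * ((k ^ 2) ^ n * y * ((k ^ 2) ^ n)⁻¹ * y⁻¹) * (k ^ 2)⁻¹ * (k ^ 2 * y * (k ^ 2)⁻¹ * y⁻¹) := by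
        rw [pow_succ']; group
      rw [this]; exact mul_mem (conj_mem (nO (pow_mem hk.1 2)) ih) e
  obtain ⟨n, m, hm, e⟩ := Nat.exists_eq_two_pow_mul_odd (orderOf_pos k).ne'
  refine ⟨n + 1, Comp.le_Opp_of_comm (U := zpowers (k ^ 2 ^ (n + 1))) hL (zpowers_le.2 (pow_mem hk.1 _)) ?_
    (comm_le_iff.2 fun a ha y hy => ?_) (mem_zpowers _)⟩
  · rw [card_zpowers']
    refine Nat.Coprime.coprime_dvd_left (orderOf_dvd_of_pow_eq_one ?_) (Nat.coprime_two_right.2 hm)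
    rw [← pow_mul, pow_succ, mul_right_comm, ← e, pow_mul, pow_orderOf_eq_one, one_pow]
  · obtain ⟨j, rfl⟩ := mem_powers_iff_mem_zpowers.2 ha
    simp only
    rw [pow_succ', pow_mul, ← pow_mul]
    exact k2 y hy _

/-- All involutions have constrained centralizers of rank at least three. -/
def NC (G : Type u) [Group G] : Prop := ∀ t : G, Iv t → I3 2 t ∧ PLay 2 C1[t] = ⊥

local notation "θ₂" => centralizerPPrimeCore 2

theorem NC.ef (h : NC G) : EF 2 (centralizerPPrimeCore (G := G) 2) := ef_core fun a ha =>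
  ⟨(map_eq_bot_iff_of_injective _ (subtype_injective _)).1 ((Comp.PLay_eq _).trans (h a (iv_iff.2 ha.1)).2),
    PF.feit_thompson' _ (by rw [Comp.cppc_eq]; exact Nat.coprime_two_right.1 (Comp.Opp_coprime _))⟩

theorem NC.cjg (h : NC G) (hA : Abelem 2 A) (g : G) : cj g (Gen A θ₂) = Gen (cj g A) θ₂ :=
  h.ef.cj_gen (fun a b c => (h a (iv_of hA b c)).1) g

theorem NC.mem_Opq (h : NC G) (f : NF T t u) (hT : Syl 2 T ⊤) (h1 : ∀ v ∈ T, v ∈ C[T] → Iv v → v = t) :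
    t ∈ Opq 2 C1[u] := by
  obtain ⟨S, hS, l⟩ := syl_superset Nat.prime_two (U := T ⊓ C1[u]) inf_le_right (hT.pi.of_le inf_le_left)
  have tu : t ∈ T ⊓ C1[u] := ⟨f.zT, mem_C1.2 f.comm⟩
  refine lemL (h u f.iu).2 (hS.inf_norm' Comp.Opq_le (Comp.Opq_normal _)) f.iu.sq (mem_C1_self u) le_rfl tu.2
    fun s hs => ?_
  by_cases c : s ∈ T ⊓ C1[u]
  · exact .inl (f.zc s c.1)
  have c1 := f.half le_rfl
  have c2 := hT.card_le hS.pi le_top
  have i : ∀ a ∈ S, ∀ b ∈ S, a ∉ T ⊓ C1[u] → b ∉ T ⊓ C1[u] → a * b ∈ T ⊓ C1[u] := fun a ha b hb =>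
    idx2 l (c2.trans c1) ha hb
  have c' : s⁻¹ ∉ T ⊓ C1[u] := fun e => c (inv_mem_iff.1 e)
  have hS' : Syl 2 S ⊤ := by
    refine hT.of_card_le le_top hS.pi (c1.trans ?_)
    have := card_lt (lt_of_le_of_ne l fun e => c (e ▸ hs.1))
    obtain ⟨a, ha⟩ := (hT.pi.of_le (inf_le_left (b := C1[u]))).card_pow Nat.prime_two
    obtain ⟨b, hb⟩ := hS.pi.card_pow Nat.prime_two
    rw [ha, hb] at this ⊢
    rw [← pow_succ]
    exact Nat.pow_le_pow_right two_pos ((Nat.pow_lt_pow_iff_right one_lt_two).1 this)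
  obtain ⟨g, -, e⟩ := hS'.conj Nat.prime_two hT
  have un : ∀ v ∈ S, v ∈ C[S] → Iv v → g * v * g⁻¹ = t := fun v a b c => h1 _ (e ▸ mem_cj_conj.2 a)
    (by rw [← e, ← cj_C]; exact mem_cj_conj.2 b) (c.cj g)
  have c3 : ∀ x ∈ T ⊓ C1[u], x * (s * t * s⁻¹) = s * t * s⁻¹ * x := fun x hx => by
    have := f.zc _ (i _ (inv_mem hs.1) _ (mul_mem (l hx) hs.1) c' fun e => c ((mul_mem_cancel_left hx).1 e)).1
    calc _ = s * (s⁻¹ * (x * s) * t) * s⁻¹ := by group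
      _ = _ := by rw [this]; group
  have c4 := c3 t tu
  have m : s * t * s⁻¹ ∈ S := mul_mem (mul_mem hs.1 (l tu)) (inv_mem hs.1)
  have c5 : s * (t * (s * t * s⁻¹)) = t * (s * t * s⁻¹) * s := by
    have := f.zc _ (i _ hs.1 _ hs.1 c c).1
    calc _ = s * t * s⁻¹ * (s * s * t) * s⁻¹ := by group
      _ = s * t * s⁻¹ * t * s := by rw [this]; group
      _ = _ := by rw [← c4]
  have c6 : t * (s * t * s⁻¹) ∈ C[S] := mem_C.2 fun y hy => by
    have k : ∀ x ∈ T ⊓ C1[u], x * (t * (s * t * s⁻¹)) = t * (s * t * s⁻¹) * x := fun x hx => by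
      rw [← mul_assoc, f.zc x hx.1, mul_assoc, c3 x hx, mul_assoc t]
    by_cases d : y ∈ T ⊓ C1[u]
    · exact k y d
    have := k _ (i _ hy _ (inv_mem hs.1) d c')
    calc _ = y * s⁻¹ * (s * (t * (s * t * s⁻¹))) := by group
      _ = y * s⁻¹ * (t * (s * t * s⁻¹)) * s := by rw [c5]; group
      _ = _ := by rw [this]; group
  by_cases d : t * (s * t * s⁻¹) = 1
  · left; rw [← mul_inv_eq_iff_eq_mul, eq_inv_of_mul_eq_one_right d, f.iz.inv]
  have sq : t * (s * t * s⁻¹) * (t * (s * t * s⁻¹)) = 1 := by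
    nth_rw 2 [c4]
    rw [mul_assoc, ← mul_assoc (s * t * s⁻¹), (f.iz.cj s).sq, one_mul, f.iz.sq]
  have := (un _ (mul_mem (l tu) m) c6 ⟨sq, d⟩).trans (un u (l ⟨f.uT, mem_C1_self u⟩) (le_C1_iff.1 hS.le) f.iu).symm
  right
  rw [mul_left_inj, mul_right_inj] at this
  rw [← f.comm, ← this, ← mul_assoc t t, f.iz.sq]
  group

theorem NC.cent (h : NC G) (hA : Abelem 2 A) (h3 : 2 ^ 3 ≤ #A) (ht : t ∈ A) (h1 : t ≠ 1) : C1[t] ≤ N[Gen A θ₂] := by
  have it := iv_of hA ht h1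
  have f := h.ef
  obtain ⟨T, hT, l⟩ := syl_superset Nat.prime_two (hA.abel.trans (C_le_C1 ht)) (hA.pig Nat.prime_two)
  have hQ := hT.inf_norm' (Comp.Opq_le (p := 2)) (Comp.Opq_normal _)
  have L : ∀ w ∈ T, (∀ q ∈ T, q * w = w * q ∨ q * w = t * w * q) → w ∈ T ⊓ Opq 2 C1[t] := fun w hw c =>
    ⟨hw, lemL (h t it).2 hQ it.sq (mem_C1_self t) le_rfl (hT.le hw) fun q hq => c q hq.1⟩
  have tc : ∀ q ∈ T, q * t = t * q := fun q hq => mem_C1.1 (hT.le hq)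
  set Q := T ⊓ Opq 2 C1[t]
  suffices e : C1[t] ⊓ N[Q] ≤ N[Gen A θ₂] by
    refine (Syl.frattini hQ Nat.prime_two Comp.Opq_le (Comp.Opq_normal _)).sup.ge.trans (sup_le
      ((Comp.SylIn.Opq_le (Comp.sylIn_iff.2 ((syl_iff Nat.prime_two).1 hQ))).trans (sup_le
        ((le_inf (inf_le_left.trans hT.le) (normG _)).trans e) ?_)) e)
    rw [← Comp.cppc_eq]; exact normsG (le_Gen ht h1)
  intro k hk
  by_cases c : ∀ v ∈ T, v ∈ C[T] → Iv v → v = t
  swap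
  · push Not at c
    obtain ⟨v, v1, v2, v3, v4⟩ := c
    have cm := (tc v v1).symm
    have a := V4_ab it v3 cm
    have n := V4_card it v3 cm v4
    have z : T ≤ C[V4 t v] := fun q hq => C_V4 (tc q hq) (mem_C.1 v2 q hq)
    have q : V4 t v ≤ Q := V4_le (L t (l ht) fun q hq => .inl (tc q hq)) (L v v1 fun q hq => .inl (mem_C.1 v2 q hq))
    rw [mem_N_iff_cj, f.gen_comm hA a (le_trans (by norm_num) h3) n.ge (l.trans z), h.cjg a]
    exact f.gen_comm (a.cj k) a (by rw [card_cj, n]) n.ge ((cj_le_of_mem q hk.2).trans (inf_le_left.trans z))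
  obtain ⟨z, u, nf⟩ := exNF hT.pi hA l h3
  obtain rfl := c z nf.zT (mem_C.2 nf.zc) nf.iz
  have hT' : Syl 2 T ⊤ := Syl.of_norm (hT.sub (le_inf le_top (normG T)) fun g hg => mem_C1.2 (mul_inv_eq_iff_eq_mul.1
    (c _ (conj_mem hg.2 nf.zT) (conj_mem (normC le_rfl hg.2) (mem_C.2 tc)) (it.cj g)))) Nat.prime_two
  have e := nf.gen f hA l h3
  have nT : T ≤ N[Gen A θ₂] := fun g hg => by rw [mem_N_iff_cj, e, h.cjg nf.ab, cj_of_mem_N (nf.norm hg)]
  have UQ : V4 z u ≤ Q := V4_le (L z nf.zT fun q hq => .inl (tc q hq)) (L u nf.uT nf.uc)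
  have nX : V4 z u ≤ N[cj k (Gen A θ₂)] :=
    UQ.trans ((cj_of_mem_N hk.2).ge.trans (norm_cj.2 (inf_le_left.trans nT)))
  have F := f.fam (hA.cj k) (by rwa [card_cj])
  rw [← h.cjg hA] at F
  refine mem_N_of_cj_le ?_
  generalize cj k (Gen A θ₂) = X at *
  have Xz : X ⊓ C1[z] ≤ Gen A θ₂ := (F.loc z (by
    rw [mem_cj, mul_assoc, ← mem_C1.1 hk.1, inv_mul_cancel_left]; exact ht) h1).trans (le_Gen ht h1)
  have Xu : ∀ u', NF T z u' → u' ∈ V4 z u → X ⊓ C1[u'] ≤ Gen A θ₂ := fun u' n m => by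
    have zu : zpowers z ≤ C1[u'] := zpowers_le.2 (mem_C1.2 n.comm)
    have nY : zpowers z ≤ N[X ⊓ C1[u']] := normI (le_sup_left.trans nX) (normC1 zu)
    have co : (#(X ⊓ C1[u'])).Coprime 2 := F.cop.coprime_dvd_left (cardS inf_le_left)
    refine (cop_cent_prod nY (by rw [card_zpowers', iv_iff.1 it]; exact co.symm) (.inl (abel_zpowers z).sol)).sup.ge.trans
      (sup_le ?_ ((inf_le_inf inf_le_left (C_zpowers z).le).trans Xz))
    refine le_trans ?_ ((le_Gen m n.iu.ne).trans e.ge)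
    rw [Comp.cppc_eq]
    exact Comp.le_Opp_of_le_Opq ((commS inf_le_right (zpowers_le.2 (h.mem_Opq n hT' c))).trans
      (commR (Comp.Opq_normal _))) (co.coprime_dvd_left (cardS (commL nY)))
  refine Comp.le_of_elements (abelem_iff.1 nf.ab) nf.card.ge F.cop nX fun a ha a1 => ?_
  rcases V4_mem nf.iz nf.iu nf.comm ha with rfl | rfl | rfl | rfl
  exacts [absurd rfl a1, Xz, Xu _ nf ha, Xu _ nf.alt ha]

theorem NC.gen (h : NC G) (hA : Abelem 2 A) (h3 : 2 ^ 3 ≤ #A) (hB : Abelem 2 B) (h4 : 2 ^ 3 ≤ #B) (ht : t ∈ A)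
    (ht' : t ∈ B) (h1 : t ≠ 1) : Gen A θ₂ = Gen B θ₂ := by
  obtain ⟨T, hT, l⟩ := syl_superset Nat.prime_two (hA.abel.trans (C_le_C1 ht)) (hA.pig Nat.prime_two)
  obtain ⟨c, hc, m⟩ := hT.cj_sub Nat.prime_two (hB.abel.trans (C_le_C1 ht')) (hB.pig Nat.prime_two)
  rw [h.ef.gen_T hT.pi hA l h3 (hB.cj c) m (by rwa [card_cj]), ← h.cjg hB, cj_of_mem_N (h.cent hB h4 ht' h1 hc)]

theorem el3_sup (hB : Abelem 2 B) (h3 : 2 ^ 3 ≤ #B) (it : Iv t) (h1 : B ≤ C1[t]) (h2 : B ≤ S) (ht : t ∈ S) :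
    ∃ B ≤ S, Abelem 2 B ∧ 2 ^ 3 ≤ #B ∧ t ∈ B :=
  ⟨B ⊔ zpowers t, sup_le h2 (zpowers_le.2 ht), hB.sup it.ab (C_zpowers t ▸ h1), h3.trans (card_le le_sup_left),
    mem_sup_right (mem_zpowers t)⟩

theorem NF.vertex (f : NF S z u) (hS : PiG {2} S) (hA : Abelem 2 A) (h1 : A ≤ S) (h3 : 2 ^ 3 ≤ #A) (ht : t ∈ S)
    (i3 : I3 2 t) (hT : Syl 2 (S ⊓ C1[t]) (C1[z] ⊓ C1[t])) : ∃ B ≤ S, Abelem 2 B ∧ 2 ^ 3 ≤ #B ∧ t ∈ B := by
  by_contra k
  have it := iv_iff.2 i3.1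
  have no : ∀ B ≤ S ⊓ C1[t], Abelem 2 B → ¬ 2 ^ 3 ≤ #B := fun B a b c =>
    k (el3_sup b c it (a.trans inf_le_right) (a.trans inf_le_left) ht)
  obtain ⟨B, b1, b2, b3, -⟩ := f.rank hA h1 h3
  have tz := f.zc t ht
  have n : z ≠ t := fun e => no A (le_inf h1 fun a ha => mem_C1.2 (e ▸ f.zc a (h1 ha))) hA h3
  have zT : z ∈ S ⊓ C1[t] := ⟨f.zT, mem_C1.2 tz.symm⟩
  have tT : t ∈ S ⊓ C1[t] := ⟨ht, mem_C1_self t⟩
  have iv : ∀ x ∈ S ⊓ C1[t], x * x = 1 → x ∈ V4 t z := fun x hx e => by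
    by_contra c
    have d := C_V4 (mem_C1.1 hx.2) (f.zc x hx.1)
    refine no (V4 t z ⊔ zpowers x) (sup_le (V4_le tT zT) (zpowers_le.2 hx))
      ((V4_ab it f.iz tz).sup (abelem_zpowers (by rw [pow_two, e])) (centC.1 (zpowers_le.2 d))) ?_
    rw [card_sup_iv (V4_ab it f.iz tz) e d c, V4_card it f.iz tz n]; rfl
  have ut : t * u = z * u * t := (f.uc t ht).resolve_left fun e => by
    refine no B (b1.trans (le_inf inf_le_left fun s hs => mem_C1.2 ?_)) b2 b3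
    have c := mem_C1.1 hs.2
    rcases V4_mem it f.iz tz (iv u ⟨f.uT, mem_C1.2 e.symm⟩ f.iu.sq) with d | d | d | d
    · exact absurd d f.iu.ne
    · exact d ▸ c
    · exact absurd d f.ne
    · rw [d, ← mul_assoc, mul_assoc t, ← f.zc s hs.1, ← mul_assoc] at c; exact mul_right_cancel c
  have u1 : u * t * u⁻¹ = t * z := by
    rw [f.iu.inv, mul_assoc, ut, f.comm, mul_assoc u, ← mul_assoc, f.iu.sq, one_mul, tz]
  have u2 : u * z * u⁻¹ = z := by rw [← f.comm, mul_inv_cancel_right]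
  obtain ⟨P, hP, l⟩ := syl_superset Nat.prime_two (inf_le_right (a := S) (b := C1[t])) hT.pi
  obtain ⟨y, hy, ny⟩ : ∃ y ∈ P ⊓ N[S ⊓ C1[t]], y ∉ S ⊓ C1[t] := by
    refine SetLike.exists_of_lt (hP.pi.nil.lt_norm (lt_of_le_of_ne l fun e => ?_))
    obtain ⟨E, e1, e2, e3⟩ := exists_el3 i3
    obtain ⟨c, -, m⟩ := hP.cj_sub Nat.prime_two (e1.abel.trans (C_le_C1 e3)) (e1.pig Nat.prime_two)
    exact no _ (e ▸ m) (e1.cj c) (by rwa [card_cj])
  have y1 : y * t * y⁻¹ = t := by rw [mem_C1.1 (hP.le hy.1), mul_inv_cancel_right]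
  have y2 : y * z * y⁻¹ = t * z := by
    rcases V4_mem it f.iz tz (iv _ (conj_mem hy.2 zT) (f.iz.cj y).sq) with d | d | d | d
    · exact absurd d (f.iz.cj y).ne
    · rw [← y1] at d; exact absurd (by simpa using d) n
    · refine absurd ((hT.max (K := S ⊓ C1[t] ⊔ zpowers y) (hP.pi.of_le (sup_le l (zpowers_le.2 hy.1)))
        (sup_le hT.le (zpowers_le.2 ⟨mem_C1.2 (mul_inv_eq_iff_eq_mul.1 d), hP.le hy.1⟩)) le_sup_left).le
        (mem_sup_right (mem_zpowers y))) ny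
    · exact d
  have zz : ∀ x : G, x * z * z = x := fun x => by rw [mul_assoc, f.iz.sq, mul_one]
  have tt : ∀ x : G, t * (t * x) = x := fun x => by rw [← mul_assoc, it.sq, one_mul]
  have y3 : y⁻¹ * t * y = t := by nth_rw 1 [← y1]; group
  have y4 : y⁻¹ * (t * z) * y = z := by rw [← y2]; group
  have y5 : y⁻¹ * z * y = t * z := by
    calc _ = (y⁻¹ * t * y) * (y⁻¹ * (t * z) * y) := by nth_rw 1 [← tt z]; group
      _ = _ := by rw [y3, y4]
  have us : ∀ s ∈ S ⊓ C1[t], u * (s * s) * u⁻¹ = s * s ∧ u * s * u⁻¹ ∈ S ⊓ C1[t] := fun s hs => by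
    have : u * s * u⁻¹ = s ∨ u * s * u⁻¹ = z * s := (f.uc s hs.1).imp (fun e => by rw [← e, mul_inv_cancel_right])
      fun e => by rw [f.iu.inv, mul_assoc, e, f.comm, mul_assoc u z, ← mul_assoc, f.iu.sq, one_mul]
    rw [← conj_mul]
    rcases this with e | e <;> rw [e]
    · exact ⟨rfl, hs⟩
    · exact ⟨by rw [← f.zc s hs.1, mul_assoc, ← mul_assoc z, ← f.zc s hs.1, zz], mul_mem zT hs⟩
  have sq : ∀ s ∈ S ⊓ C1[t], s * s ∈ V4 t z → s * s = 1 := fun s hs m => by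
    have a1 := (us s hs).1
    have a2 := (us _ (conj_mem' hy.2 hs)).1
    rw [show y⁻¹ * s * y * (y⁻¹ * s * y) = y⁻¹ * (s * s) * y by group] at a2
    have nt : t * z ≠ t := by simpa using f.iz.ne
    have u3 : u * (t * z) * u⁻¹ = t := by rw [← conj_mul, u1, u2, zz]
    rcases V4_mem it f.iz tz m with d | d | d | d <;> rw [d] at a1 a2
    · exact d
    · exact absurd (u1.symm.trans a1) nt
    · rw [y5, u3] at a2; exact absurd a2.symm nt
    · rw [u3] at a1; exact absurd a1.symm nt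
  have TV : S ⊓ C1[t] ≤ V4 t z := fun s hs => by
    obtain ⟨j, e⟩ := (hT.pi.elt hs).pow_eq_one Nat.prime_two
    induction j generalizing s with
    | zero => rw [pow_zero, pow_one] at e; exact e ▸ one_mem _
    | succ j ih => exact iv s hs (sq s hs (ih _ (mul_mem hs hs) (by rw [← pow_two, ← pow_mul, ← pow_succ', e])))
  have nU : zpowers t ≤ N[V4 z u] := zpowers_le.2 (f.norm ht)
  have tU : t ∉ V4 z u := fun e => by
    rw [mem_C_comm f.ab.abel e V4_r, mul_left_inj, eq_comm, mul_eq_right] at ut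
    exact f.iz.ne ut
  have RS : V4 z u ⊔ zpowers t ≤ S := sup_le f.le (zpowers_le.2 ht)
  have TR : S ⊓ C1[t] ≤ V4 z u ⊔ zpowers t :=
    TV.trans (V4_le (mem_sup_right (mem_zpowers t)) (mem_sup_left V4_l))
  obtain ⟨g, hg, ng⟩ : ∃ g ∈ S ⊓ N[V4 z u ⊔ zpowers t], g ∉ V4 z u ⊔ zpowers t := by
    refine SetLike.exists_of_lt (hS.nil.lt_norm (lt_of_le_of_ne RS fun e => ?_))
    have : B ≤ V4 z u := fun x hx => by
      obtain ⟨a, ha, c, hc, rfl⟩ := (mem_sup_l nU).1 (e.ge (b1 hx).1)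
      rcases it.mem hc with rfl | rfl
      · simpa using ha
      have := (mul_mem_cancel_left (f.ab.abel.trans (C_le_C1 V4_r) ha)).1 (b1 hx).2
      rw [mem_C1.1 this, mul_left_inj, eq_comm, mul_eq_right] at ut
      exact absurd ut f.iz.ne
    have := card_le this
    rw [f.card] at this; omega
  obtain ⟨a, ha, c, hc, e⟩ := (mem_sup_l nU).1 (conj_mem hg.2 (mem_sup_right (mem_zpowers t)))
  have q := (it.cj g).sq
  rcases it.mem hc with rfl | rfl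
  · rw [mul_one] at e
    rw [← e] at ha
    exact tU ((mem_N.1 (f.norm hg.1) t).2 ha)
  have uu : ∀ x : G, u * (u * x) = x := fun x => by rw [← mul_assoc, f.iu.sq, one_mul]
  have q2 : u * c * (u * c) = z := by rw [mul_assoc, ← mul_assoc c, ut, f.comm]; simp only [mul_assoc, uu, it.sq, mul_one]
  rcases V4_mem f.iz f.iu f.comm ha with d | d | d | d <;> rw [d] at e
  · rw [one_mul, mul_inv_eq_iff_eq_mul] at e; exact ng (TR ⟨hg.1, mem_C1.2 e⟩)
  · refine ng ((mul_mem_cancel_left (mem_sup_left V4_r)).1 (TR ⟨mul_mem f.uT hg.1, mem_C1.2 ?_⟩))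
    rw [← mul_inv_eq_iff_eq_mul, show u * g * c * (u * g)⁻¹ = u * (g * c * g⁻¹) * u⁻¹ by group, e, ← conj_mul, u1, u2,
      tz, ← mul_assoc, f.iz.sq, one_mul]
  · rw [e, q2] at q; exact f.iz.ne q
  · rw [e, mul_assoc z, mul_assoc z, ← mul_assoc (u * c), f.zc _ (mul_mem f.uT ht), mul_assoc z, q2, f.iz.sq,
      mul_one] at q
    exact f.iz.ne q

/-- Cores of strongly embedded subgroups are global. -/
def SEC (G : Type u) [Group G] : Prop :=
  ∀ H : Subgroup G, IsStronglyEmbedded H → (oddCore H).map H.subtype ≤ oddCore G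

theorem NC.core (h : NC G) (hS : SEC G) (hO : oddCore G = ⊥) (it : Iv t) : θ₂ t = ⊥ := by
  have f := h.ef
  obtain ⟨A, a1, a2, a3⟩ := exists_el3 (h t it).1
  obtain ⟨S, s1, s2⟩ := syl_superset Nat.prime_two (le_top (a := A)) (a1.pig Nat.prime_two)
  obtain ⟨z, u, nf⟩ := exNF s1.pi a1 s2 a2
  have e := nf.gen f a1 s2 a2
  have nS : S ≤ N[Gen A θ₂] := fun g hg => by rw [mem_N_iff_cj, e, h.cjg nf.ab, cj_of_mem_N (nf.norm hg)]
  have Cz : C1[z] ≤ N[Gen A θ₂] := by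
    obtain ⟨B, b1, b2, b3, b4⟩ := el3_sup a1 a2 nf.iz (fun a ha => mem_C1.2 (nf.zc a (s2 ha))) s2 nf.zT
    rw [f.gen_T s1.pi a1 s2 a2 b2 b1 b3]; exact h.cent b2 b3 b4 nf.iz.ne
  have key : ∀ s ∈ N[Gen A θ₂], Iv s → ∀ E, Abelem 2 E → 2 ^ 3 ≤ #E → s ∈ E → Gen E θ₂ = Gen A θ₂ := by
    intro s hs is E e1 e2 e3
    obtain ⟨T, t1, t2⟩ := syl_superset Nat.prime_two (M := N[Gen A θ₂] ⊓ C1[s]) (U := zpowers s)
      (zpowers_le.2 ⟨hs, mem_C1_self s⟩) (is.ab.pig Nat.prime_two)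
    obtain ⟨m, hm, l⟩ := Syl.cj_sub (s1.sub nS le_top) Nat.prime_two (t1.le.trans inf_le_left) t1.pi
    have t3 := t1.cj m
    rw [cj_inf, cj_of_mem hm, cj_C1] at t3
    have t4 := t3.max (K := S ⊓ C1[m * s * m⁻¹]) (s1.pi.of_le inf_le_left) (inf_le_inf_right _ nS)
      (le_inf l (t3.le.trans inf_le_right))
    have ms := l (mem_cj_conj.2 (t2 (mem_zpowers s)))
    obtain ⟨B, b1, b2, b3, b4⟩ := nf.vertex s1.pi a1 s2 a2 ms (h _ (is.cj m)).1 ((t4 ▸ t3).sub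
      (le_inf (fun a ha => mem_C1.2 (nf.zc a ha.1)) inf_le_right) (inf_le_inf_right _ Cz))
    apply cj_injective m
    rw [h.cjg e1, h.gen (e1.cj m) (by rwa [card_cj]) b2 b3 (mem_cj_conj.2 e3) b4 (is.cj m).ne, cj_of_mem_N hm,
      f.gen_T s1.pi a1 s2 a2 b2 b1 b3]
  have o := famp (f.fam a1 a2)
  refine eq_bot_iff.2 ((le_Gen a3 it.ne).trans (le_trans ?_ hO.le))
  by_cases c : N[Gen A θ₂] = ⊤
  · exact (le_O le_top c.ge o).trans (pPrimeCore_eq Nat.prime_two).ge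
  refine (le_O (normG _) le_rfl o).trans ((pPrimeCore_map Nat.prime_two _).ge.trans (hS _ (Inv.se_iff.2 ⟨c,
    even_iff_two_dvd.2 ((iv_iff.1 it).symm.dvd.trans (orderOf_dvd (nS (s2 a3)))), fun s hs o g hg => ?_⟩)))
  have is := iv_iff.2 o
  obtain ⟨E, e1, e2, e3⟩ := exists_el3 (h s is).1
  rw [mem_N_iff_cj, ← key s hs is E e1 e2 e3, h.cjg e1,
    key _ hg (is.cj g) _ (e1.cj g) (by rwa [card_cj]) (mem_cj_conj.2 e3), key s hs is E e1 e2 e3]

theorem char2 (hS : SEC G) (hO : oddCore G = ⊥) (he : Even (Nat.card G)) (hc : ¬ IsComponentType G)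
    (h3 : ∀ t : G, Iv t → I3 2 t) : IsCharacteristicTwoType G := by
  have L : ∀ t : G, Iv t → pLayer 2 C1[t] = ⊥ := fun t it =>
    sSup_eq_bot.2 fun K hK => absurd ⟨t, iv_iff.1 it, _, hK.2.1⟩ hc
  have h : NC G := fun t it => ⟨h3 t it, by rw [← Comp.PLay_eq, L t it, Subgroup.map_bot]⟩
  refine ⟨he, fun T hT h1 => ?_⟩
  have := S1292.result (fun t ht => by
    rw [← Comp.FStar_top, ← Comp.Op_top, Comp.FStar_eq_Op_iff_PLay, Comp.PLay_top, Comp.Opp_top]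
    exact ⟨L t (iv_iff.2 ht), (map_eq_bot_iff_of_injective _ (subtype_injective _)).1
      (h.core hS hO (iv_iff.2 ht))⟩) T hT h1
  unfold IsOfCharacteristicTwo
  rw [← this, ← Comp.FStar_top]
  exact (le_inf le_top le_rfl).trans (Comp.centralizer_FStar_le ⊤)

theorem el3_syl (h3 : ¬ PRankLE 2 2 G) (S : Sylow 2 G) : ∃ A ≤ (S : Subgroup G), Abelem 2 A ∧ 2 ^ 3 ≤ #A := by
  obtain ⟨E, e1, e2⟩ := Comp.exists_elemAb_of_not_rank h3
  obtain ⟨g, -, l⟩ := Syl.cj_sub (syl_top Nat.prime_two S) Nat.prime_two le_top ((abelem_iff.2 e1).pig Nat.prime_two)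
  exact ⟨_, l, (abelem_iff.2 e1).cj g, by rwa [card_cj]⟩

theorem i3_cj (h : I3 2 (g * t * g⁻¹)) : I3 2 t := by
  obtain ⟨E, e1, e2, e3⟩ := exists_el3 h
  exact i3_of (e1.cj g⁻¹) (by rwa [card_cj]) (mem_cj_inv.2 e3) (by simpa using (iv_iff.2 h.1).ne)

theorem i3_syl (S : Sylow 2 G) (h : ∀ t ∈ (S : Subgroup G), Iv t → I3 2 t) (t : G) (it : Iv t) : I3 2 t := by
  obtain ⟨g, -, l⟩ := Syl.cj_sub (syl_top Nat.prime_two S) Nat.prime_two le_top (it.ab.pig Nat.prime_two)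
  exact i3_cj (h _ (l (mem_cj_conj.2 (mem_zpowers t))) (it.cj g))

theorem dichotomy (hS : SEC G) (he : Even (Nat.card G)) (h2 : ∀ N : Subgroup G, N.Normal → N.index ≠ 2)
    (hO : oddCore G = ⊥) : PRankLE 2 2 G ∨ IsComponentType G ∨ IsCharacteristicTwoType G := by
  rw [or_iff_not_imp_left, or_iff_not_imp_left]
  intro h3 hc
  obtain ⟨S⟩ : Nonempty (Sylow 2 G) := inferInstance
  obtain ⟨A, a1, a2, a3⟩ := el3_syl h3 S
  obtain ⟨z, u, f⟩ := exNF (syl_top Nat.prime_two S).pi a2 a1 a3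
  have k : ∀ t ∈ (S : Subgroup G) ⊓ C1[u], Iv t → I3 2 t := fun t ht it => by
    by_cases c : t ∈ V4 z u
    · obtain ⟨B, -, b2, b3, b4⟩ := f.rank a2 a1 a3
      exact i3_of b2 b3 (b4 c) it.ne
    · exact i3_of (f.ab.sup it.ab (centC.1 (zpowers_le.2 (f.cent ht))))
        (by rw [card_sup_iv f.ab it.sq (f.cent ht) c, f.card]; rfl) (mem_sup_right (mem_zpowers t)) it.ne
  refine char2 hS hO he hc (i3_syl S fun t ht it => ?_)
  by_cases c : t ∈ (S : Subgroup G) ⊓ C1[u]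
  · exact k t c it
  have i : ((S : Subgroup G) ⊓ C1[u]).relIndex S = 2 := relIndex_eq_two_iff_exists_notMem_and.2 ⟨t, ht, c, fun b hb =>
    or_iff_not_imp_right.2 fun n => idx2 inf_le_left (f.half le_rfl) hb ht n c⟩
  rcases S0111.result S _ inf_le_left i t (iv_iff.1 it) ht c with ⟨M, m1, m2, -⟩ | ⟨g, hg⟩
  exacts [absurd m2 (h2 M m1), i3_cj (k _ hg (it.cj g))]

theorem klein_iff {V : Subgroup G} : IsKleinFour V ↔ Abelem 2 V ∧ #V = 2 ^ 2 := by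
  refine ⟨fun h => ⟨⟨abel_of_card_sq Nat.prime_two h.card_four,
    exp_dvd_iff.1 h.exponent_two.dvd⟩, h.card_four⟩, fun h => ⟨h.2, ?_⟩⟩
  refine ((Nat.dvd_prime Nat.prime_two).1 (exp_dvd_iff.2 h.1.pow)).resolve_left fun e => ?_
  have := Monoid.exp_eq_one_iff.1 e
  have := h.2
  rw [Nat.card_of_subsingleton (1 : V)] at this
  omega

theorem four_conn (hS : SEC G) (h3 : ¬ PRankLE 2 2 G) (hO : oddCore G = ⊥) (hc : ¬ IsComponentType G) (S : Sylow 2 G)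
    (h : IsFourConnected (S : Subgroup G)) : IsCharacteristicTwoType G := by
  obtain ⟨A, a1, a2, a3⟩ := el3_syl h3 S
  obtain ⟨z, u, f⟩ := exNF (syl_top Nat.prime_two S).pi a2 a1 a3
  refine char2 hS hO (even_iff_two_dvd.2 (iv_iff.1 f.iz ▸ orderOf_dvd_natCard z)) hc (i3_syl S fun t ht it => ?_)
  obtain ⟨B, -, b2, b3, b4⟩ := f.rank a2 a1 a3
  by_cases c : t = z
  · exact i3_of b2 b3 (c ▸ b4 V4_l) it.ne
  have inj := subtype_injective (S : Subgroup G)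
  obtain ⟨U, hU⟩ := exists_lift f.le
  obtain ⟨V, hV⟩ := exists_lift (V4_le f.zT ht)
  have k : ∀ (V : Subgroup S) (a b : G), V.map (S : Subgroup G).subtype = V4 a b → Iv a → Iv b → a * b = b * a → b ≠ a →
      IsKleinFour V := fun V a b e x y c n => klein_iff.2 ⟨(abelem_map_inj inj).1 (e ▸ V4_ab x y c),
        by rw [← card_map_inj inj, e, V4_card x y c n]⟩
  suffices e : ∃ B, Abelem 2 B ∧ 2 ^ 3 ≤ #B ∧ V.map (S : Subgroup G).subtype ≤ B by
    obtain ⟨B, b2, b3, b4⟩ := e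
    exact i3_of b2 b3 (b4 (hV ▸ V4_r)) it.ne
  have := h V U (k V z t hV f.iz it (f.zc t ht).symm c) (k U z u hU f.iz f.iu f.comm f.ne)
  clear hV
  induction this using Relation.ReflTransGen.head_induction_on with
  | refl => exact ⟨B, b2, b3, hU ▸ b4⟩
  | @head V W e _ ih =>
    obtain ⟨v1, v2⟩ := klein_iff.1 e.1
    obtain ⟨w1, w2⟩ := klein_iff.1 e.2.1
    have d := v1.sup w1 (le_C_iff.2 e.2.2)
    by_cases c : 2 ^ 3 ≤ #(V ⊔ W)
    · exact ⟨_, d.map _, by rwa [card_map_inj inj], map_mono le_sup_left⟩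
    have := Comp.card_le_pow_of_lt ((d.pig Nat.prime_two).pg Nat.prime_two) (not_le.1 c)
    rwa [eq_of_card_le le_sup_left (this.trans v2.ge), ← eq_of_card_le le_sup_right (this.trans w2.ge)]

end Cfsg.Agent.SFT
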