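import Cfsg.Agent.SFT.B
/-!
The solvable signalizer functor theorem, part 3: primes at least five, and the theorem.
-/
set_option autoImplicit false
set_option linter.unusedSectionVars false

namespace Cfsg.Agent.SFT
open Subgroup Cfsg.Agent.BG PHom
open Cfsg.Agent.Comp (SF Fam MaxQ)
open Cfsg.Agent.PLoc (WOf JOf)
open Cfsg.Agent.Fac (VZ)

universe u
variable {G : Type u} [Group G] [Finite G] {A B H K L M N P Q R S T U V W X Y : Subgroup G} {a b c g : G} {p q s : ℕ}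
  {π : Set ℕ} {θ θ' : G → Subgroup G} [hp : Fact p.Prime] [hq : Fact q.Prime]

local notation "SI" => signalizerInf

/-- The degenerate configuration. -/
structure DG (p : ℕ) (A : Subgroup G) (θ : G → Subgroup G) (q : ℕ) (Q K L : Subgroup G) : Prop
    extends MC p A θ, PK p A θ q K L where
  mq : MQ p A θ q Q
  abQ : Abel Q
  LN : L ≤ N[Q]
  d2 : ∀ X, Fam p A θ X → PiG {q}ᶜ X → Q ≤ N[X] → X = ⊥
  d3 : ∀ U, Fam p A θ U → Q ≤ U → U ≤ L
  pK : PiG {q}ᶜ K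
  q5 : 5 ≤ q

theorem MC.dg (h : MC p A θ) (h5 : 5 ≤ q) (hQ : MQ p A θ q Q) (h0 : Q ≠ ⊥) : ∃ K L, DG p A θ q Q K L := by
  have nW : A ≤ N[WOf q Q] := hQ.mem.inv.trans (PLoc.normalizer_le_normalizer_WOf Q)
  have fW := hQ.mem.of_le (PLoc.WOf_le Q) nW
  have W0 := PLoc.WOf_ne_bot hQ.pg h0
  have fL := h.locN fW W0
  have QL := h.le_Loc hQ.mem (PLoc.le_normalizer_WOf (p := q) Q)
  have G0 : ∀ Q' U, MQ p A θ q Q' → Q' ≤ Loc A θ N[WOf q Q] → Fam p A θ U → Q' ≤ U → Gd q (Loc A θ N[WOf q Q]) U :=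
    fun Q' U a b c d => by
      obtain ⟨x, e, rfl⟩ := (h.mq_syl hQ fL QL).conj hq.out (h.mq_syl a fL b)
      have := W_fact h5 c.solv (h.mq_syl a c d)
      rw [show WOf q (cj x Q) = WOf q Q from (PLoc.cj_WOf x Q).symm.trans (cj_of_mem_N (Loc_le e))] at this
      exact this.trans (sup_le_sup_left (le_inf inf_le_left (h.inf_le_Loc c (normN nW))) _)
  obtain ⟨K, k, k2, k3⟩ := h.pk hQ h0 fL QL G0
  have P := k.prodN h.toS3 ((PLoc.WOf_le Q).trans QL) nW (inf_le_right.trans Loc_le)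
  have e : K ⊔ WOf q Q = Gen A θ := le_antisymm (sup_le (h.le_gen k.fK) (h.le_gen fW)) (by_contra fun c => W0
    (h.ncl (k.prod h.toS3) k.fK.inv (h.loc (normY k.fK.inv nW) c) (h.le_Loc k.fK le_sup_left)
      (h.le_Loc fW le_sup_right) nW Loc_le))
  rw [e] at P
  have e' : WOf q Q = Q := by
    have := (P.modr' (PLoc.WOf_le Q) (h.le_gen hQ.mem)).sup
    rwa [k2.inf_bot' hQ.pig, bot_sup_eq] at this
  have ab := (abelem_iff.2 (PLoc.isEA_WOf (p := q) Q)).abel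
  rw [e'] at P ab G0 k
  have d2 : ∀ X, Fam p A θ X → PiG {q}ᶜ X → Q ≤ N[X] → X = ⊥ := fun X a b c =>
    h.ncl P k.fK.inv k.fK le_rfl (k3 X a b (inf_le_left.trans c)) a.inv c
  exact ⟨K, _, h, k, hQ, ab, Loc_le, d2, fun U a b => (G0 Q U hQ (h.le_Loc hQ.mem (normG Q)) a b).trans (sup_le
    ((d2 _ (S3.O a _) (O_pig _ _) (b.trans (O_norm _ _))).le.trans bot_le) inf_le_right), k2, h5⟩

theorem cj_OmZ (g : G) (S : Subgroup G) : cj g Ω[s](Z[S]) = Ω[s](Z[cj g S]) := by simp only [cj_Om, cj_inf, cj_C]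

namespace DG

theorem leL (h : DG p A θ q Q K L) (h1 : Y ≤ Q) (h0 : Y ≠ ⊥) (h2 : A ≤ N[Y]) (hU : Fam p A θ U) (h3 : U ≤ N[Y]) :
    U ≤ L :=
  (h.le_Loc hU h3).trans (h.d3 _ (h.locN (h.mq.mem.of_le h1 h2) h0) (h.le_Loc h.mq.mem (abel_norm h.abQ h1)))

theorem leQ (h : DG p A θ q Q K L) (hR : Fam p A θ R) (h1 : PiG {q} R) (h0 : R ⊓ Q ≠ ⊥) : R ≤ Q := by
  obtain ⟨Q', a, b⟩ := exists_MQ hR h1
  obtain ⟨c, d, rfl⟩ := h.trans h.mq b
  exact a.trans (h.mq_le h.mq b.mem b.pig ((h.leL inf_le_right h0 (normI hR.inv h.mq.mem.inv) b.mem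
    (abel_norm (abel_cj.2 h.abQ) (inf_le_left.trans a))).trans h.LN))

variable [hs : Fact s.Prime]

theorem d5 (h : DG p A θ q Q K L) (n : q ≠ s) (hd : s ∣ (K ⊓ L).relIndex K) (hB : B ≤ A) (hi : B.relIndex A = p)
    (h0 : Q ⊓ C[B] ≠ ⊥) : ∃ S P, MQ p A θ s S ∧ Fam p A θ P ∧ PiG {s} P ∧ Q ⊓ C[B] ≤ N[P] ∧ Ω[s](Z[S]) ≤ P ∧
      (Q ⊓ C[B] ≤ N[JOf s S] ∨ Ω[s](Z[S]) ≤ N[Q]) := by
  have fW := h.mq.mem.inf (h.nC hB)
  have pW := h.mq.pig.of_le (inf_le_left (b := C[B]))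
  have fB := h.fK.of_le (h.KB_le hB) (h.nKB hB)
  rw [(h.prodB h.toS3 hB hi).symm.relIndex] at hd
  obtain ⟨S₀, a1, a2⟩ := cop_syl_exists (sup_le (h.nKB hB) ((h.mq.mem.inf_centralizer_le hB).trans siKB))
    (Core.IsPiNum.coprime (π := {p, q}) (PiG.sup_r (h.pA.single_mono (.inl rfl)) (pW.single_mono (.inr rfl)) fW.inv)
      fun r b c d => d.elim (famp fB r b c) (h.pK.of_le (h.KB_le hB) r b c)) (.inr fB.solv) hs.out
  have a3 : ¬ S₀ ≤ L := fun b => a1.not_dvd hs.out (hd.trans (relIndex_dvd_left (le_inf (a1.le.trans (h.KB_le hB)) b) _))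
  obtain ⟨U, u1, ⟨fU, pU⟩, u2⟩ := exists_maximal (P := fun U => Fam p A θ U ∧ PiG {q, s} U) ⟨h.sup fW
    (fB.of_le a1.le (le_sup_left.trans a2)) (le_sup_right.trans a2), PiG.sup_r (pW.single_mono (.inl rfl))
      (a1.pi.single_mono (.inr rfl)) (le_sup_right.trans a2)⟩
  have WU := le_sup_left.trans u1
  have o : O[{s}ᶜ](U) = ⊥ := eq_bot_iff.2 ((O_mono' fun r b c d => (pU r b c).resolve_right d).trans (le_of_eq
    (by_contra fun b => a3 (le_sup_right.trans (u1.trans (h.leL (le_sup_right.trans (h.leQ (h.sup fW (S3.O fU _)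
      (WU.trans (O_norm _ _))) (pW.sup_r (O_pig _ _) (WU.trans (O_norm _ _))) fun c => h0 (eq_bot_iff.2 ((le_inf
        le_sup_left inf_le_left).trans c.le)))) b (S3.O fU _).inv fU (O_norm _ _)))))))
  obtain ⟨S, s1, s2⟩ := h.syl0 fU s
  have fS := fU.of_le s1.le s2
  have S0 : S ≠ ⊥ := s1.ne_bot' hs.out ((a1.pi.dvd fun b => a3 (b.le.trans bot_le)).trans
    (cardS (le_sup_right.trans u1)))
  have zP : Ω[s](Z[S]) ≤ O[{s}](U) := (le_inf ((OmZ_le _ _).trans s1.le) ((OmZ_cent _ _).trans (centS s1.O_le))).trans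
    (C_O_le fU.solv o)
  have mx : ∀ Y, Y ≠ ⊥ → Y ≤ S → N[S] ≤ N[Y] → U ≤ N[Y] → MQ p A θ s S := fun Y b c d e => by
    obtain ⟨T, t1, t2⟩ := exists_MQ fS s1.pi
    have f := h.locN (fS.of_le c (s2.trans d)) b
    obtain ⟨H, i, j, k⟩ := cop_hall_superset f.inv (h.cp le_rfl f) f.solv (h.le_Loc fU e) pU fU.inv
    rw [u2 H ⟨f.of_le i.le j, i.pi⟩ k] at i
    exact t2.pig.nil.eq_of_norm t1 ((i.syl (.inr rfl) s1).max (t2.pig.of_le inf_le_left) (h.le_Loc (t2.mem.inf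
      (normN s2)) (inf_le_right.trans d)) (le_inf t1 (normG S))).le ▸ t2
  have J := Fac.JOf_le_VZ s1 s1.O_le (O_norm _ _) zP fU.solv fun b c => by
    have := h.q5
    rcases b with rfl | rfl
    · rcases pU 3 Nat.prime_three c with d | d <;> [omega; simp at d]
    · rcases pU 2 Nat.prime_two (Dvd.dvd.trans (by norm_num) c) with d | d <;> [omega; simp at d]
  have VP := (Fac.VZ_le s1.O_le (O_norm _ _) zP).trans (OmZ_le _ _)
  have nD : U ≤ N[U ⊓ C[VZ s U S]] := normI (normG U) (normC Fac.VZ_norm)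
  obtain ⟨R, r1, r2, r3⟩ := h.syl fU WU pW fW.inv
  have RQ := h.leQ (fU.of_le r1.le r2) r1.pi fun c => h0 (eq_bot_iff.2 ((le_inf r3 inf_le_left).trans c.le))
  have nV := Fac.norm_VZ (p := s) fU.inv s2
  refine ⟨S, O[{s}](U), ?_⟩
  by_cases c : R ⊓ (U ⊓ C[VZ s U S]) = ⊥
  · have d : PiG {s} (U ⊓ C[VZ s U S]) := fun r e f => (pU r e (f.trans (cardS inf_le_left))).resolve_left
      ((r1.inf_norm' inf_le_left nD).eq_bot_iff.1 c r e f)
    have e : U ≤ N[JOf s S] := le_antisymm (Fac.JOf_le_of s1 le_rfl ((J.trans (sup_le le_rfl ((le_O inf_le_left nD d).trans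
      s1.O_le))).trans (PLoc.le_normalizer_JOf S))) (Fac.JOf_mono s1) ▸ PLoc.le_normalizer_JOf U
    exact ⟨mx _ (PLoc.JOf_ne_bot (s1.pi.pg hs.out) S0 dvd_rfl) (PLoc.JOf_le S) (PLoc.normalizer_le_normalizer_JOf S) e,
      S3.O fU _, O_pig _ _, WU.trans (O_norm _ _), zP, .inl (WU.trans e)⟩
  have d := (h.leL (inf_le_left.trans RQ) c (normI r2 (normI fU.inv (normC nV))) (fU.of_le (VP.trans (O_le _ _)) nV)
    (cents_norm (cent_symm (inf_le_right.trans inf_le_right)))).trans h.LN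
  have e : R ≤ C[VZ s U S] := comm_eq_bot'.1 (eq_bot_iff.2 ((le_inf ((commS le_rfl RQ).trans (commR d))
    (commL (r1.le.trans Fac.VZ_norm))).trans (h.mq.pig.inf_bot (PiN.ne_compl ((O_pig _ _).of_le VP) n.symm)).le))
  exact ⟨mx _ (s1.pi.OmZ_ne_bot S0) (OmZ_le _ _) (normOmZ _ le_rfl) (cents_norm ((Hall.prod r1 (hall_pq n pU s1)).sup.ge.trans
    (sup_le (e.trans (centS Fac.le_VZ)) (cent_symm (OmZ_cent _ _))))), S3.O fU _, O_pig _ _, WU.trans (O_norm _ _), zP,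
    .inr (Fac.le_VZ.trans d)⟩

theorem d6 (h : DG p A θ q Q K L) (n : q ≠ s) (hd : s ∣ (K ⊓ L).relIndex K) (hT : MQ p A θ s T) (h0 : T ≠ ⊥) :
    ¬ Ω[s](Z[T]) ≤ N[Q] := fun z => by
  have fZ := hT.mem.of_le (OmZ_le s T) (normOmZ _ hT.mem.inv)
  refine hT.pig.OmZ_ne_bot h0 (h.d2 _ fZ (PiN.ne_compl (hT.pig.of_le (OmZ_le _ _)) n.symm)
    (cents_norm (h.hyp h.mq.mem fun B b1 b2 => ?_)))
  by_cases w : Q ⊓ C[B] = ⊥
  · exact w.le.trans bot_le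
  obtain ⟨S, P, s1, s2, s3, s4, s5, -⟩ := h.d5 n hd b1 b2 w
  obtain ⟨c, c1, rfl⟩ := h.trans s1 hT
  refine cent_symm (h.hyp fZ fun E e1 e2 => ?_)
  obtain ⟨e, eB, eE, e0⟩ := Comp.exists_mem_hyperplanes h.rk e1 b2 e2
  have eA := b1 eB
  have f := h.fam eA e0
  have fe := h.mq.mem.inf (h.nC1 eA)
  have q1 := (h.mq.mem.loc e eA e0).trans (O_norm {q}ᶜ _)
  have nM : θ e ≤ N[O[{q}ᶜ](θ e) ⊔ Q ⊓ C1[e]] := (h.hF e eA e0).trans (sup_le (normsG le_sup_left) (normY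
    (inf_le_left.trans (O_norm _ _)) (normI (inf_le_right.trans h.LN) (normC1 (inf_le_left.trans (h.le e eA e0))))))
  have We : Q ⊓ C[B] ≤ Q ⊓ C1[e] := inf_le_inf_left _ (C_le_C1 eB)
  have cθ : c ∈ θ e := Comp.sigInf_le eA e0 c1
  have cA := h.siC le_rfl c1
  have k : ⁅Ω[s](Z[S]) ⊓ C[E], Q ⊓ C[B]⁆ ≤ O[{q}ᶜ](θ e) := PiG.le_of_idx (PiN.ne_compl (s3.of_le ((commS
    (inf_le_left.trans s5) le_rfl).trans (commL s4))) n.symm) (sup_le (normG _) q1) ((commS le_rfl (We.trans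
    le_sup_right)).trans (commR (((inf_le_inf s5 (C_le_C1 eE)).trans (s2.loc e eA e0)).trans nM)))
    (relIndex_sup_l q1 ▸ PiN.compl_compl ((h.mq.pig.of_le inf_le_left).relIndex _))
  replace k := cj_mono c k
  rw [cj_comm, cj_inf c _ C[E], cj_OmZ, cj_of_mem (centS e1 cA), cj_of_mem_N (O_norm _ _ cθ)] at k
  have fI := (S3.O f {q}ᶜ).inf fe.inv
  have l : Q ⊓ C[B] ≤ O[{q}ᶜ](θ e) ⊔ cj c (Q ⊓ C[B]) := by
    have := cj_mono c ((cop_mul_cent (b1.trans (S3.O f _).inv) (b1.trans fe.inv) (isProd_l q1) (h.cp b1 fI)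
      (.inr fI.solv)).sup.ge.trans (sup_le_sup inf_le_left (inf_le_inf_right _ inf_le_left)))
    rw [cj_sup, cj_of_mem_N (O_norm _ _ cθ), cj_inf c _ C[B], cj_of_mem (centS b1 cA), cj_of_mem_N (nM cθ)] at this
    exact (le_inf (We.trans le_sup_right) inf_le_right).trans this
  have m := ((inf_le_inf_left _ (C_le_C1 eE)).trans (fZ.loc e eA e0)).trans (O_norm {q}ᶜ _)
  exact comm_eq_bot.1 (eq_bot_iff.2 ((le_inf ((commS inf_le_left inf_le_left).trans (commR z)) ((commS le_rfl l).trans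
    (comm_sup_le' (commR m) k (normG _) ((cj_le_of_mem (We.trans (h.mq.mem.loc e eA e0)) (normG _ cθ)).trans
      (O_norm _ _))))).trans (h.mq.pig.inf_bot (O_pig _ _)).le))

theorem d7 (h : DG p A θ q Q K L) (n : q ≠ s) (hd : s ∣ (K ⊓ L).relIndex K) : False := by
  obtain ⟨S₀, a1, a2⟩ := h.syl0 h.fK s
  obtain ⟨T, t1, t2⟩ := exists_MQ (h.fK.of_le a1.le a2) a1.pi
  have T0 : T ≠ ⊥ := fun b => a1.ne_bot' hs.out (hd.trans (relIndex_dvd _ _)) (eq_bot_iff.2 (t1.trans b.le))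
  have fJ := t2.mem.of_le (PLoc.JOf_le (e := s) T) (t2.mem.inv.trans (PLoc.normalizer_le_normalizer_JOf T))
  have J0 := PLoc.JOf_ne_bot t2.pg T0 dvd_rfl
  have fU := h.locN fJ J0
  obtain ⟨d, d1, d2⟩ := h.exists_conj_sylow h.rk h.mq fU
  replace d2 : Syl q (cj d Q ⊓ Loc A θ N[JOf s T]) _ := (syl_iff hq.out).2 (Comp.sylIn_iff.1 d2)
  have fQ := h.fam_cj h.mq.mem d1
  have k : cj d Q ≤ N[JOf s T] := (h.hyp fQ fun B b1 b2 => ?_).trans (Loc_le (A := A) (θ := θ))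
  · refine J0 (cj_eq_bot.1 (h.d2 _ (h.fam_cj fJ (inv_mem d1)) (PiG.cj (PiN.ne_compl (t2.pig.of_le (PLoc.JOf_le T))
      n.symm) _) ?_))
    rwa [← norm_cj (g := d), cj_cj_inv]
  have e : cj d Q ⊓ C[B] = cj d (Q ⊓ C[B]) := by rw [cj_inf, cj_of_mem (centS b1 (h.siC le_rfl d1))]
  by_cases w : Q ⊓ C[B] = ⊥
  · rw [e, w, cj_bot]; exact bot_le
  obtain ⟨S, P, s1, -, -, -, -, s2⟩ := h.d5 n hd b1 b2 w
  obtain ⟨c, c1, rfl⟩ := h.trans s1 t2
  have fW := h.mq.mem.inf (h.nC b1)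
  have i : cj c (Q ⊓ C[B]) ≤ N[JOf s (cj c S)] := PLoc.cj_JOf c S ▸ norm_cj.2
    (s2.resolve_right (h.d6 n hd s1 fun b => T0 (cj_eq_bot.2 b)))
  have j := (cop_syl_cent (b1.trans fU.inv) (h.cp b1 fU) (.inr fU.solv) hq.out d2
    (b1.trans (normI fQ.inv fU.inv))).card_le ((h.mq.pig.of_le inf_le_left).cj c) (le_inf (h.le_Loc (h.fam_cj fW c1) i)
      (cj_le_of_mem inf_le_right (normG _ (centS b1 (h.siC le_rfl c1)))))
  exact (eq_of_card_le (inf_le_inf_right C[B] inf_le_left) (by rwa [e, card_cj, ← card_cj c])).ge.trans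
    (inf_le_left.trans inf_le_right)

end DG

theorem not_mc : ¬ MC p A θ := fun h => by
  by_cases c : ∃ q, q.Prime ∧ 5 ≤ q ∧ ∃ a ∈ A, a ≠ 1 ∧ q ∣ #(θ a)
  · obtain ⟨q, q1, q2, a, a1, a2, a3⟩ := c
    have : Fact q.Prime := ⟨q1⟩
    obtain ⟨Q, -, hQ⟩ := exists_MQ (q := q) (Fam.bot (p := p) (A := A) (θ := θ)) (pig_bot _)
    obtain ⟨K, L, d⟩ := h.dg q2 hQ fun b => (h.syl_theta hQ a1 a2).ne_bot' q1 a3 (eq_bot_iff.2 (inf_le_left.trans b.le))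
    obtain ⟨s, s1, s2⟩ := Nat.exists_prime_and_dvd (n := (K ⊓ L).relIndex K) fun e => h.nc (by
      rw [← (d.prod h.toS3).sup, sup_eq_right.2 ((relIndex_eq_one.1 e).trans inf_le_right)]; exact d.fL)
    have : Fact s.Prime := ⟨s1⟩
    exact d.d7 (fun e => d.pK s s1 (s2.trans (relIndex_dvd _ _)) e.symm) s2
  have t : ∀ a ∈ A, a ≠ 1 → PiG {2, 3} (θ a) := fun a a1 a2 r b d => by
    have : ¬ 5 ≤ r := fun e => c ⟨r, b, e, a, a1, a2, d⟩
    have := b.two_le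
    have : r ≠ 4 := fun e => by subst e; norm_num at b
    simp only [Set.mem_insert_iff, Set.mem_singleton_iff]; omega
  have : Fact (Nat.Prime 3) := ⟨Nat.prime_three⟩
  obtain ⟨Q, -, hQ⟩ := exists_MQ (q := 2) (Fam.bot (p := p) (A := A) (θ := θ)) (pig_bot _)
  obtain ⟨R, -, hR⟩ := exists_MQ (q := 3) (Fam.bot (p := p) (A := A) (θ := θ)) (pig_bot _)
  have e1 := h.two (by norm_num) t hQ
  have e2 := h.two (r := 2) (by norm_num) (fun a b c => Set.pair_comm 2 3 ▸ t a b c) hR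
  refine h.nc (Fam.bot.of_le (Gen_le fun a b c => le_of_syl fun r d e => ?_) h.nG)
  rcases t a b c r d e with rfl | rfl
  · exact ⟨_, h.syl_theta hQ b c, inf_le_left.trans e1.le⟩
  · exact ⟨_, h.syl_theta hR b c, inf_le_left.trans e2.le⟩

/-- The solvable signalizer functor theorem. -/
theorem complete (h : SF p A θ) (h3 : p ^ 3 ≤ #A) : Fam p A θ (Gen A θ) :=
  reduce (fun _ _ _ _ _ => not_mc) _ G A θ le_rfl ⟨h, h3⟩

end Cfsg.Agent.SFT
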