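import Cfsg.Agent.SFT.C
import Cfsg.Agent.Comp.Conn
import Cfsg.Agent.Comp.Bal
/-!
Equivariant signalizer functors.
-/
set_option autoImplicit false
set_option linter.unusedSectionVars false

namespace Cfsg.Agent.SFT
open Subgroup Cfsg.Agent.BG PHom
open Cfsg.Agent.Comp (SF Fam MaxQ)

universe u
variable {G : Type u} [Group G] [Finite G] {A B E F : Subgroup G} {a b g : G} {p : ℕ}
  {θ : G → Subgroup G} [hp : Fact p.Prime]

/-- Elements of order `p` with centralizer of rank at least three. -/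
def I3 (p : ℕ) (a : G) : Prop := orderOf a = p ∧ ¬ PRankLE p 2 ↥(C1[a])

/-- An equivariant functor. -/
structure EF (p : ℕ) (θ : G → Subgroup G) : Prop where
  hC : ∀ a, I3 p a → θ a ≤ C1[a] ∧ ¬ p ∣ #(θ a) ∧ Sol (θ a)
  eq : ∀ a g, I3 p a → θ (g * a * g⁻¹) = cj g (θ a)
  bal : ∀ a b, I3 p a → I3 p b → a * b = b * a → θ a ⊓ C1[b] ≤ θ b

theorem i3_of (hA : Abelem p A) (h3 : p ^ 3 ≤ #A) (ha : a ∈ A) (h1 : a ≠ 1) : I3 p a :=
  ⟨orderOf_of_pow hp.out (hA.pow a ha) h1, Comp.not_rank_iff.2 ⟨A, hA.abel.trans (C_le_C1 ha), abelem_iff.1 hA, h3⟩⟩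

theorem EF.fam (h : EF p θ) (hA : Abelem p A) (h3 : p ^ 3 ≤ #A) : Fam p A θ (Gen A θ) :=
  complete ⟨abelem_iff.1 hA, fun a b c => (h.hC a (i3_of hA h3 b c)).1, fun a b c =>
    (hp.out.coprime_iff_not_dvd.2 (h.hC a (i3_of hA h3 b c)).2.1).symm, fun a b c x d => mem_N_iff_cj.2 (by
      rw [← h.eq a x (i3_of hA h3 b c), mem_C_comm hA.abel d b, mul_inv_cancel_right]),
    fun a b c x d e => h.bal a x (i3_of hA h3 b c) (i3_of hA h3 d e) (mem_C_comm hA.abel b d),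
    fun a b c => (h.hC a (i3_of hA h3 b c)).2.2⟩ h3

theorem EF.gen_eq (h : EF p θ) (hA : Abelem p A) (h3 : p ^ 3 ≤ #A) (hE : E ≤ A) (h2 : p ^ 2 ≤ #E) :
    Gen E θ = Gen A θ := by
  have f := h.fam hA h3
  exact le_antisymm (Gen_le fun a b c => le_Gen (hE b) c) (Comp.le_of_elements (abelem_iff.1 (hA.of_le hE)) h2 f.cop
    (hE.trans f.inv) fun a b c => (f.loc a (hE b) c).trans (le_Gen b c))

theorem EF.gen_comm (h : EF p θ) (hE : Abelem p E) (hF : Abelem p F) (e2 : p ^ 2 ≤ #E) (f2 : p ^ 2 ≤ #F)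
    (c : E ≤ C[F]) : Gen E θ = Gen F θ := by
  have d := hE.sup hF c
  by_cases k : p ^ 3 ≤ #(E ⊔ F)
  · rw [h.gen_eq d k le_sup_left e2, h.gen_eq d k le_sup_right f2]
  have := Comp.card_le_pow_of_lt ((d.pig hp.out).pg hp.out) (not_le.1 k)
  rw [eq_of_card_le le_sup_left (this.trans e2), ← eq_of_card_le le_sup_right (this.trans f2)]

theorem EF.cj_gen (h : EF p θ) (hA : ∀ a ∈ A, a ≠ 1 → I3 p a) (g : G) : cj g (Gen A θ) = Gen (cj g A) θ := by
  refine le_antisymm (cj_le_iff.2 (Gen_le fun a b c => cj_le_iff.1 ?_)) (Gen_le fun a b c => ?_)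
  · rw [← h.eq a g (hA a b c)]; exact le_Gen (mem_cj_conj.2 b) (by simpa using c)
  obtain ⟨x, d, rfl⟩ := exists_of_mem_cj b
  have e : x ≠ 1 := by simpa using c
  rw [h.eq x g (hA x d e)]; exact cj_mono _ (le_Gen d e)

theorem exists_el3 (h : I3 p a) : ∃ A, Abelem p A ∧ p ^ 3 ≤ #A ∧ a ∈ A := by
  obtain ⟨F, b, c, d⟩ := Comp.not_rank_iff.1 h.2
  exact ⟨F ⊔ zpowers a, (abelem_iff.2 c).sup (abelem_zpowers (h.1 ▸ pow_orderOf_eq_one a)) (C_zpowers a ▸ b),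
    d.trans (card_le le_sup_left), mem_sup_right (mem_zpowers a)⟩

theorem EF.trivial (h : EF p θ) (hO : pPrimeCore p G = ⊥) (hc : IsRankGraphConnected p 2 G) (ha : I3 p a) :
    θ a = ⊥ := by
  obtain ⟨A, b, c, d⟩ := exists_el3 ha
  have p2 : p ^ 2 ≤ p ^ 3 := Nat.pow_le_pow_right hp.out.pos (by omega)
  have v : ∀ A : Subgroup G, Abelem p A → p ^ 3 ≤ #A → IsRankGraphVertex p 2 A := fun A b c =>
    ⟨abelem_iff.1 b, p2.trans c, Comp.not_rank_iff.2 ⟨A, b.abel, abelem_iff.1 b, c⟩⟩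
  have n : ⊤ ≤ N[Gen A θ] := fun g _ => mem_N_iff_cj.2 (by
    rw [h.cj_gen fun _ x y => i3_of b c x y]
    have := hc _ _ (v _ (b.cj g) ((card_cj g A).symm ▸ c)) (v A b c)
    generalize cj g A = B at this
    induction this using Relation.ReflTransGen.head_induction_on with
    | refl => rfl
    | head e _ ih => exact (h.gen_comm (abelem_iff.2 e.1.1) (abelem_iff.2 e.2.1.1) e.1.2.1 e.2.1.2.1
        (le_C_iff.2 e.2.2)).trans ih)
  exact eq_bot_iff.2 ((le_Gen d fun e => hp.out.one_lt.ne (by rw [← ha.1, e, orderOf_one])).trans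
    ((le_O le_top n (famp (h.fam b c))).trans ((pPrimeCore_eq hp.out).symm.trans hO).le))

theorem ef_core (h : ∀ a : G, I3 p a → pLayer p ↥(C1[a]) = ⊥ ∧ Sol (centralizerPPrimeCore p a)) :
    EF p (centralizerPPrimeCore (G := G) p) := by
  have e : ∀ a : G, centralizerPPrimeCore p a = O[{p}ᶜ](C1[a]) := fun a => pPrimeCore_map hp.out _
  refine ⟨fun a b => ⟨e a ▸ O_le _ _, e a ▸ (pin_compl hp.out).1 (O_pig _ _), (h a b).2⟩, fun a g _ => by
    rw [e, e, cj_O, cj_C1], fun a b c d f => ?_⟩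
  have := Comp.Opp_centralizer_le (H := C1[b]) (P := zpowers a) (by rw [← Comp.PLay_eq, (h b d).1, Subgroup.map_bot])
    ((pig_of_card' hp.out ((card_zpowers' a).trans c.1)).pg hp.out) (zpowers_le.2 (mem_C1.2 f))
  rw [C_zpowers] at this
  rw [Comp.cppc_eq, Comp.cppc_eq]
  exact (le_inf inf_le_left (le_inf inf_le_right (inf_le_left.trans Comp.Opp_le))).trans
    ((Comp.Opp_inf_le inf_le_right).trans this)

end Cfsg.Agent.SFT
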