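import Cfsg.Agent.Fac.Push
import Cfsg.Agent.Comp.Fact
import Cfsg.Agent.Comp.Sig
/-!
The solvable signalizer functor theorem, part 1: the family, the minimal counterexample, the `q'`-functor.
-/
set_option autoImplicit false
set_option linter.unusedSectionVars false

namespace Cfsg.Agent.SFT
open Subgroup Cfsg.Agent.BG PHom
open Cfsg.Agent.Comp (SF Fam MaxQ)
open scoped Pointwise

universe u
variable {G : Type u} [Group G] [Finite G] {A B H K L M N P Q R S T U V W X Y : Subgroup G} {a b c g : G} {p q : ℕ}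
  {π : Set ℕ} {θ θ' : G → Subgroup G}

/-- The stabilizer of a product set. -/
def PSt (K N : Subgroup G) : Subgroup G := MulAction.stabilizer G ((K : Set G) * (N : Set G))

theorem mem_PSt (h : ∀ k ∈ K, ∃ k' ∈ K, ∃ n ∈ N, g * k = k' * n) : g ∈ PSt K N :=
  (MulAction.mem_stabilizer_set' (Set.toFinite _)).2 (by
    rintro _ ⟨k, hk, n, hn, rfl⟩
    obtain ⟨k', a, n', b, e⟩ := h k hk
    exact ⟨k', a, n' * n, mul_mem b hn, by simp only [smul_eq_mul, ← mul_assoc, e]⟩)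

theorem isProd_of_PSt (h : N ≤ PSt K N) : IsProd K N (K ⊔ N) := by
  refine ⟨le_sup_left, le_sup_right, fun m hm => ?_⟩
  have a : K ≤ PSt K N := fun g hg => mem_PSt fun k hk => ⟨g * k, mul_mem hg hk, 1, one_mem _, (mul_one _).symm⟩
  obtain ⟨k, b, n, c, e⟩ := (MulAction.mem_stabilizer_set.1 (sup_le a h hm) 1).2
    ⟨1, one_mem K, 1, one_mem N, mul_one _⟩
  exact ⟨k, b, n, c, by simpa using e.symm⟩

theorem le_O_of_syl (hs : Sol U) (hS : Hall π S U) (hX : X ≤ U) (pX : PiG πᶜ X) (h : S ≤ N[X]) : X ≤ O[πᶜ](U) := by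
  have n := O_norm πᶜ U
  have a : O[π](U ÷ O[πᶜ](U)) ≤ S ÷ O[πᶜ](U) := (hS.im (φ := quo _) n).O_le
  have b : X ÷ O[πᶜ](U) ≤ O[π](U ÷ O[πᶜ](U)) := (le_inf (im_mono hX) (cent_symm ((O_pig π _).cent (pX.im _)
    (a.trans (im_norm h)) ((im_mono hX).trans (O_norm _ _))))).trans (C_O_le (hs.im _) (O_quo_O _ _))
  exact (quo_bot_iff (hX.trans n)).1 (((O_pig π _).of_le b).eq_bot (pX.im _))

def Gen (A : Subgroup G) (θ : G → Subgroup G) : Subgroup G := ⨆ a : {a : G // a ∈ A ∧ a ≠ 1}, θ a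

theorem le_Gen (ha : a ∈ A) (h1 : a ≠ 1) : θ a ≤ Gen A θ := le_iSup_of_le (f := fun a : {a : G // a ∈ A ∧ a ≠ 1} => θ a) ⟨a, ha, h1⟩ le_rfl
theorem Gen_le (h : ∀ a ∈ A, a ≠ 1 → θ a ≤ H) : Gen A θ ≤ H := iSup_le fun a => h a a.2.1 a.2.2
theorem norm_Gen (h : ∀ a ∈ A, a ≠ 1 → X ≤ N[θ a]) : X ≤ N[Gen A θ] := norm_iSup fun a => h a a.2.1 a.2.2

variable [hp : Fact p.Prime] [hq : Fact q.Prime]

structure S3 (p : ℕ) (A : Subgroup G) (θ : G → Subgroup G) : Prop extends SF p A θ where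
  rk : p ^ 3 ≤ #A

abbrev MQ (p : ℕ) (A : Subgroup G) (θ : G → Subgroup G) (q : ℕ) (Q : Subgroup G) : Prop := MaxQ (Fam p A θ) q Q

local notation "SI" => signalizerInf

theorem famp (hU : Fam p A θ U) : PiG {p}ᶜ U := (pin_compl_cop hp.out).2 hU.cop
theorem fam_mono (h : ∀ a, θ' a ≤ θ a) (hU : Fam p A θ' U) : Fam p A θ U :=
  ⟨hU.1, hU.2, hU.3, fun a b c => (hU.4 a b c).trans (h a)⟩
theorem MQ.pig (h : MQ p A θ q Q) : PiG {q} Q := pig_of_pg hq.out h.pg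
theorem exists_MQ (h : Fam p A θ R) (h2 : PiG {q} R) : ∃ Q, R ≤ Q ∧ MQ p A θ q Q := Comp.exists_maxQ h (h2.pg hq.out)

namespace S3

theorem ab (h : S3 p A θ) : Abelem p A := abelem_iff.2 h.elem
theorem pA (h : S3 p A θ) : PiG {p} A := h.ab.pig hp.out
theorem cp (h : S3 p A θ) (hB : B ≤ A) (hU : Fam p A θ U) : (#B).Coprime #U := (h.pA.of_le hB).coprime (famp hU)
theorem ne (h : S3 p A θ) : A ≠ ⊥ := Comp.ne_bot_of_pow_le (by omega) h.rk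
theorem nC (h : S3 p A θ) (hB : B ≤ A) : A ≤ N[C[B]] := normC (abel_norm h.ab.abel hB)
theorem c1 (h : S3 p A θ) (ha : a ∈ A) : A ≤ C1[a] := h.ab.abel.trans (C_le_C1 ha)
theorem nC1 (h : S3 p A θ) (ha : a ∈ A) : A ≤ N[C1[a]] := normC1 (h.c1 ha)
theorem elts (h : S3 p A θ) (hX : Fam p A θ X) (h1 : ∀ a ∈ A, a ≠ 1 → X ⊓ C1[a] ≤ H) : X ≤ H :=
  Comp.le_of_elements h.elem ((Nat.pow_le_pow_right hp.out.pos (by omega)).trans h.rk) hX.cop hX.inv h1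
theorem hyp (h : S3 p A θ) (hX : Fam p A θ X) (h1 : ∀ B, B ≤ A → B.relIndex A = p → X ⊓ C[B] ≤ H) : X ≤ H :=
  Comp.le_of_hyperplanes h.elem h.ne hX.cop hX.inv h1
theorem hcard (h : S3 p A θ) (hB : B ≤ A) (hi : B.relIndex A = p) : p ^ 2 ≤ #B := Comp.card_hyperplane h.rk hB hi
theorem hne (h : S3 p A θ) (hB : B ≤ A) (hi : B.relIndex A = p) : B ≠ ⊥ :=
  Comp.ne_bot_of_pow_le (by omega) (h.hcard hB hi)
theorem le_gen (h : S3 p A θ) (hX : Fam p A θ X) : X ≤ Gen A θ :=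
  h.elts hX fun a b c => (hX.loc a b c).trans (le_Gen b c)
theorem nG (h : S3 p A θ) : A ≤ N[Gen A θ] := norm_Gen h.inv
theorem sup (h : S3 p A θ) (hU : Fam p A θ U) (hV : Fam p A θ V) (h1 : U ≤ N[V]) : Fam p A θ (U ⊔ V) :=
  hU.sup h.elem hV h1
theorem O (hU : Fam p A θ U) (π : Set ℕ) : Fam p A θ O[π](U) := hU.of_le (O_le _ _) (normO _ hU.inv)

theorem syl (h : S3 p A θ) (hU : Fam p A θ U) (h1 : R ≤ U) (h2 : PiG {q} R) (h3 : A ≤ N[R]) :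
    ∃ S, Syl q S U ∧ A ≤ N[S] ∧ R ≤ S := cop_syl_superset hU.inv (h.cp le_rfl hU) (.inr hU.solv) hq.out h1 h2 h3
theorem syl0 (h : S3 p A θ) (hU : Fam p A θ U) (q : ℕ) [hq : Fact q.Prime] : ∃ S, Syl q S U ∧ A ≤ N[S] :=
  cop_syl_exists hU.inv (h.cp le_rfl hU) (.inr hU.solv) hq.out
theorem mq_syl (h : S3 p A θ) (hQ : MQ p A θ q Q) (hU : Fam p A θ U) (h1 : Q ≤ U) : Syl q Q U := by
  obtain ⟨S, a, b, c⟩ := h.syl hU h1 hQ.pig hQ.mem.inv
  exact hQ.max S (hU.of_le a.le b) (a.pi.pg hq.out) c ▸ a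
theorem trans (h : S3 p A θ) (h1 : MQ p A θ q Q) (h2 : MQ p A θ q R) : ∃ c ∈ SI A θ, cj c Q = R :=
  h.transitivity h.rk h1 h2
theorem mq_cj (h : S3 p A θ) (h1 : MQ p A θ q Q) (hc : c ∈ SI A θ) : MQ p A θ q (cj c Q) := h1.conj h.tfam hc
theorem fam_cj (h : S3 p A θ) (h1 : Fam p A θ U) (hc : c ∈ SI A θ) : Fam p A θ (cj c U) := h1.conj h.toSF hc
theorem mq_le (h : S3 p A θ) (hQ : MQ p A θ q Q) (hR : Fam p A θ R) (h1 : PiG {q} R) (h2 : R ≤ N[Q]) : R ≤ Q :=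
  le_sup_left.trans (hQ.max _ (h.sup hR hQ.mem h2) ((h1.sup_r hQ.pig h2).pg hq.out) le_sup_right).le
theorem syl_theta (h : S3 p A θ) (hQ : MQ p A θ q Q) (ha : a ∈ A) (h1 : a ≠ 1) : Syl q (Q ⊓ C1[a]) (θ a) :=
  (syl_iff hq.out).2 (Comp.sylIn_iff.1 (h.sylow_theta h.rk hQ ha h1))
theorem syl_inf (h : S3 p A θ) (hQ : MQ p A θ q Q) (hB : B ≤ A) (h1 : B ≠ ⊥) : Syl q (Q ⊓ C[B]) (SI B θ) :=
  (syl_iff hq.out).2 (Comp.sylIn_iff.1 (h.sylow_sigInf h.rk hQ hB h1))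
theorem siC (h : S3 p A θ) (hB : B ≤ A) : SI B θ ≤ C[B] := h.sigInf_le_centralizer hB

theorem pig (h : S3 p A θ) (h1 : ∀ a ∈ A, a ≠ 1 → PiG π (θ a)) (hU : Fam p A θ U) : PiG π U := by
  refine fun r hr hd => by_contra fun hn => ?_
  have : Fact r.Prime := ⟨hr⟩
  obtain ⟨S, a, b⟩ := h.syl0 hU r
  have c := hU.of_le a.le b
  refine a.ne_bot' hr hd (eq_bot_iff.2 (h.elts c fun x d e => (PiG.eq_bot (a.pi.of_le inf_le_left)
    (PiN.compl_single' ((h1 x d e).of_le (c.loc x d e)) hn)).le))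

theorem mul_C1 (h : S3 p A θ) (hX : Fam p A θ X) (hY : A ≤ N[Y]) (hM : IsProd X Y M) (ha : a ∈ A) :
    IsProd (X ⊓ C1[a]) (Y ⊓ C1[a]) (M ⊓ C1[a]) := by
  have b := zpowers_le.2 ha
  simpa only [C_zpowers] using cop_mul_cent (b.trans hX.inv) (b.trans hY) hM (h.cp b (hX.inf hY)) (.inr (hX.inf hY).solv)

theorem prod (h : S3 p A θ) (hX : Fam p A θ X) (hY : Fam p A θ Y) (hM : IsProd X Y M) (hs : Sol M) :
    Fam p A θ M :=
  ⟨hs, (pin_compl_cop hp.out).1 (hM.pig (famp hX) (famp hY)), hM.sup ▸ normY hX.inv hY.inv, fun a b c =>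
    (h.mul_C1 hX hY.inv hM b).sup.ge.trans (sup_le (hX.loc a b c) (hY.loc a b c))⟩

theorem res (h : S3 p A θ) (hH : A ≤ N[H]) : S3 p A fun a => θ a ⊓ H :=
  ⟨⟨h.elem, fun a b c => inf_le_left.trans (h.le a b c), fun _ b c => ((h.fam b c).inf hH).cop,
    fun _ b c => ((h.fam b c).inf hH).inv, fun a b c d e f => le_inf ((inf_le_inf_right _ inf_le_left).trans
      (h.bal a b c d e f)) (inf_le_left.trans inf_le_right), fun _ b c => ((h.fam b c).inf hH).solv⟩, h.rk⟩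

theorem quot (h : S3 p A θ) (hU : Fam p A θ U) (hn : Gen A θ ≤ N[U]) : ∃ θ' : Quo U → Subgroup (Quo U),
    S3 p (A ÷ U) θ' ∧ Gen (A ÷ U) θ' = Gen A θ ÷ U ∧ (Fam p (A ÷ U) θ' (Gen (A ÷ U) θ') → Fam p A θ (Gen A θ)) := by
  have i : A ⊓ (quo U).ker = ⊥ := by rw [quo_ker]; exact h.pA.inf_bot (famp hU)
  have dA : A ≤ (quo U).dom := hU.inv
  have j : Set.InjOn (quo U).app A := fun x a y b e => by
    have : x⁻¹ * y ∈ A ⊓ (quo U).ker := ⟨A.mul_mem (A.inv_mem a) b, (app_eq_iff (dA a) (dA b)).1 e⟩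
    rw [i, mem_bot, inv_mul_eq_one] at this; exact this
  obtain ⟨θ', e⟩ : ∃ θ' : Quo U → Subgroup (Quo U), ∀ a ∈ A, θ' ((quo U).app a) = θ a ÷ U :=
    ⟨fun y => θ (Function.invFunOn (quo U).app A y) ÷ U, fun a ha => by simp only [j.leftInvOn_invFunOn ha]⟩
  have k : ∀ y ∈ A ÷ U, y ≠ 1 → ∃ a ∈ A, a ≠ 1 ∧ (quo U).app a = y := fun y a b => by
    obtain ⟨x, c, rfl⟩ := (mem_im' dA).1 a
    exact ⟨x, c, fun d => b (d ▸ app_one), rfl⟩
  have k' : ∀ a ∈ A, a ≠ 1 → (quo U).app a ≠ 1 := fun a b c d => c (j b (one_mem A) (d.trans app_one.symm))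
  have dθ : ∀ a ∈ A, a ≠ 1 → θ a ≤ (quo U).dom := fun a b c => (le_Gen b c).trans hn
  have eG : Gen (A ÷ U) θ' = Gen A θ ÷ U := le_antisymm (Gen_le fun y a b => by
      obtain ⟨x, c, d, rfl⟩ := k y a b
      exact (e x c).le.trans (im_mono (le_Gen c d)))
    ((le_pre_iff (φ := quo U) hn).1 (Gen_le fun x c d => (le_pre_iff (dθ x c d)).2
      ((e x c).ge.trans (le_Gen (app_mem_im c (dA c)) (k' x c d)))))
  refine ⟨θ', ⟨⟨abelem_iff.1 (h.ab.im _), fun y a b => ?_, fun y a b => ?_, fun y a b => ?_, fun y a b z a' b' => ?_,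
    fun y a b => ?_⟩, (card_im_inj dA i).symm ▸ h.rk⟩, eG, fun f => ?_⟩
  any_goals obtain ⟨x, c, d, rfl⟩ := k y a b
  · exact (e x c).le.trans (im_C1 (dA c) (h.le x c d))
  · rw [e x c]; exact (pin_compl_cop hp.out).1 ((famp (h.fam c d)).im _)
  · rw [e x c]; exact im_norm (h.inv x c d)
  · obtain ⟨w, c', d', rfl⟩ := k z a' b'
    have l := zpowers_le.2 c'
    have m : Fam p A θ (θ x ⊓ (quo U).ker) := by rw [quo_ker]; exact (h.fam c d).inf hU.inv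
    rw [e x c, e w c', ← C_zpowers, ← im_zpowers (dA c'), ← im_IC (l.trans dA) (dθ x c d) (l.trans m.inv) (h.cp l m)
      (.inr m.solv) (l.trans (h.inv x c d)), C_zpowers]
    exact im_mono (h.bal x c d w c' d')
  · rw [e x c]; exact Sol.im (h.solv x c d) _
  · rw [eG] at f
    have m : Gen A θ ⊓ (quo U).ker ≤ U := inf_le_right.trans (quo_ker U).le
    refine ⟨sol_of_im (φ := quo U) hn (Sol.of_le hU.solv m) f.solv, (pin_compl_cop hp.out).1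
      (pig_of_im (φ := quo U) hn ((famp hU).of_le m) (famp f)), h.nG, fun x c d => ?_⟩
    have := (quo_le_iff (inf_le_left.trans hn) (dθ x c d)).1 ((le_inf (im_mono inf_le_left)
      (im_C1 (dA c) inf_le_right)).trans ((f.loc _ (app_mem_im c (dA c)) (k' x c d)).trans (e x c).le))
    exact (le_inf this inf_le_right).trans ((h.sup (h.fam c d) hU (dθ x c d)).loc x c d)

end S3

/-- A minimal counterexample. -/
structure MC (p : ℕ) (A : Subgroup G) (θ : G → Subgroup G) : Prop extends S3 p A θ where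
  sub : ∀ θ', S3 p A θ' → (∀ a, θ' a ≤ θ a) → (∃ a, θ' a ≠ θ a) → Fam p A θ' (Gen A θ')
  noN : ∀ U, Fam p A θ U → Gen A θ ≤ N[U] → U = ⊥
  nc : ¬ Fam p A θ (Gen A θ)

theorem reduce (H : ∀ (G : Type u) [Group G] [Finite G] (A : Subgroup G) (θ : G → Subgroup G), ¬ MC p A θ) (n : ℕ) :
    ∀ (G : Type u) [Group G] [Finite G] (A : Subgroup G) (θ : G → Subgroup G), #(Gen A θ) ≤ n → S3 p A θ →
      Fam p A θ (Gen A θ) := by
  induction n using Nat.strong_induction_on with | _ n ih => ?_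
  intro G _ _ A θ
  have : WellFoundedLT (G → Subgroup G) := Finite.to_wellFoundedLT
  induction θ using WellFoundedLT.induction with | _ θ ih2 => ?_
  refine fun hn h => by_contra fun hc => H G A θ ⟨h, fun θ' a b ⟨x, c⟩ => ih2 θ' (lt_of_le_of_ne b fun e => c (e ▸ rfl))
    ((card_le (Gen_le fun y d e => (b y).trans (le_Gen d e))).trans hn) a, fun U a b => by_contra fun c => ?_, hc⟩
  obtain ⟨θ', d, e, f⟩ := h.quot a b
  exact hc (f (ih _ ((card_quo_lt b (h.le_gen a) c).trans_le hn) _ _ θ' (e ▸ le_rfl) d))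

def Loc (A : Subgroup G) (θ : G → Subgroup G) (H : Subgroup G) : Subgroup G := Gen A fun a => θ a ⊓ H

theorem Loc_le : Loc A θ H ≤ H := Gen_le fun _ _ _ => inf_le_right
theorem S3.le_Loc (h : S3 p A θ) (hU : Fam p A θ U) (h1 : U ≤ H) : U ≤ Loc A θ H :=
  h.elts hU fun a b c => (le_inf (hU.loc a b c) (inf_le_left.trans h1)).trans (le_Gen (θ := fun a => θ a ⊓ H) b c)
theorem S3.inf_le_Loc (h : S3 p A θ) (hU : Fam p A θ U) (h1 : A ≤ N[H]) : U ⊓ H ≤ Loc A θ H :=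
  h.le_Loc (hU.inf h1) inf_le_right
theorem MC.loc (h : MC p A θ) (hH : A ≤ N[H]) (hn : ¬ Gen A θ ≤ H) : Fam p A θ (Loc A θ H) :=
  fam_mono (fun _ => inf_le_left) (h.sub _ (h.res hH) (fun _ => inf_le_left) (by_contra fun c => hn
    (Gen_le fun a _ _ => inf_eq_left.1 (by_contra fun d => c ⟨a, d⟩))))
theorem MC.locN (h : MC p A θ) (hY : Fam p A θ Y) (h0 : Y ≠ ⊥) : Fam p A θ (Loc A θ N[Y]) :=
  h.loc (normN hY.inv) fun c => h0 (h.noN Y hY c)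

theorem MC.exK (h : MC p A θ) (hQ : MQ p A θ q Q) (h0 : Q ≠ ⊥) : ∃ K, Fam p A θ K ∧ PiG {q}ᶜ K ∧
    ∀ X, Fam p A θ X → PiG {q}ᶜ X → Q ⊓ C[A] ≤ N[X] → X ≤ K := by
  let T : G → Subgroup G := fun a => sSup {X | X ≤ θ a ∧ PiG {q}ᶜ X ∧ A ≤ N[X] ∧ Q ⊓ C[A] ≤ N[X]}
  have t1 : ∀ a, T a ≤ θ a := fun a => sSup_le fun X b => b.1
  have t2 : ∀ a, A ≤ N[T a] := fun a => norm_sSup fun X b => b.2.2.1
  have t3 : ∀ a, Q ⊓ C[A] ≤ N[T a] := fun a => norm_sSup fun X b => b.2.2.2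
  have t4 : ∀ a ∈ A, a ≠ 1 → PiG {q}ᶜ (T a) := fun a b c => by
    have f := h.fam b c
    obtain ⟨H, d, e⟩ := cop_hall_exists {q}ᶜ f.inv (h.cp le_rfl f) f.solv
    refine d.pi.of_le (sSup_le fun X ⟨x1, x2, x3, x4⟩ => ?_)
    obtain ⟨H', d', e', x5⟩ := cop_hall_superset f.inv (h.cp le_rfl f) f.solv x1 x2 x3
    obtain ⟨g, i, rfl⟩ := cop_hall_conj f.inv (h.cp le_rfl f) f.solv d' d e' e
    have j := h.syl_inf hQ le_rfl h.ne
    rw [h.sigInf_eq le_rfl b c] at j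
    obtain ⟨y, k, z, l, rfl⟩ := (Hall.prod j (cop_hall_cent f.inv (h.cp le_rfl f) f.solv d' e')).ex g i
    rw [cj_mul, cj_of_mem l.1, ← cj_of_mem_N (x4 k)]
    exact cj_mono _ x5
  have t5 : ∀ X, Fam p A θ X → PiG {q}ᶜ X → Q ⊓ C[A] ≤ N[X] → ∀ a ∈ A, a ≠ 1 → X ⊓ C1[a] ≤ T a :=
    fun X x1 x2 x3 a b c => le_sSup ⟨x1.loc a b c, x2.of_le inf_le_left, normI x1.inv (h.nC1 b),
      normI x3 (normC1 (inf_le_right.trans (C_le_C1 b)))⟩
  have f : ∀ a ∈ A, a ≠ 1 → Fam p A θ (T a) := fun a b c => (h.fam b c).of_le (t1 a) (t2 a)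
  have s : S3 p A T := ⟨⟨h.elem, fun a b c => (t1 a).trans (h.le a b c), fun a b c => (f a b c).cop, fun a _ _ => t2 a,
    fun a b c => t5 _ (f a b c) (t4 a b c) (t3 a), fun a b c => (f a b c).solv⟩, h.rk⟩
  have k := h.sub T s t1 (by_contra fun d => h0 (eq_bot_iff.2 (h.elts hQ.mem fun a b c => (PiG.eq_bot
    (hQ.pig.of_le inf_le_left) ((t4 a b c).of_le ((hQ.mem.loc a b c).trans (by_contra fun e => d ⟨a, fun i =>
      e i.ge⟩)))).le)))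
  exact ⟨_, fam_mono t1 k, s.pig t4 k, fun X x1 x2 x3 => h.elts x1 fun a b c => (t5 X x1 x2 x3 a b c).trans (le_Gen b c)⟩

theorem MC.ncl (h : MC p A θ) (hP : IsProd K L (Gen A θ)) (hK : A ≤ N[K]) (hH : Fam p A θ H) (h1 : K ≤ H) (h2 : X ≤ H)
    (h3 : A ≤ N[X]) (h4 : L ≤ N[X]) : X = ⊥ := by
  have a : ∀ k ∈ K, cj k X ≤ ⨆ k : K, cj (k : G) X := fun k b => le_iSup (fun k : K => cj (k : G) X) ⟨k, b⟩
  have b : ∀ g, (∀ k ∈ K, ∃ k' ∈ K, ∃ n ∈ N[X], g * k = k' * n) → g ∈ N[⨆ k : K, cj (k : G) X] := fun g c =>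
    mem_N_of_cj_le (cj_le_iff.2 (iSup_le fun k => cj_le_iff.1 (by
      obtain ⟨k', d, n, e, f⟩ := c k k.2
      rw [← cj_mul, f, cj_mul, cj_of_mem_N e]; exact a k' d)))
  refine eq_bot_iff.2 (((cj_one X).ge.trans (a 1 (one_mem K))).trans (h.noN _ (hH.of_le (iSup_le fun k =>
    cj_le_of_mem h2 (normG H (h1 k.2))) fun g c => b g fun k d => ⟨_, conj_mem (hK c) d, g, h3 c, by group⟩)
      fun g c => b g fun k d => ?_).le)
  obtain ⟨k', e, n, f, i⟩ := hP.ex _ (mul_mem c (hP.left d))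
  exact ⟨k', e, n, h4 f, i⟩

/-- The product situation. -/
structure PK (p : ℕ) (A : Subgroup G) (θ : G → Subgroup G) (q : ℕ) (K L : Subgroup G) : Prop where
  fK : Fam p A θ K
  fL : Fam p A θ L
  hO : ∀ a ∈ A, a ≠ 1 → O[{q}ᶜ](θ a) ≤ K
  hF : ∀ a ∈ A, a ≠ 1 → θ a ≤ O[{q}ᶜ](θ a) ⊔ θ a ⊓ L

abbrev KB (B : Subgroup G) (θ : G → Subgroup G) (q : ℕ) : Subgroup G := Gen B fun a => O[{q}ᶜ](θ a)

theorem PK.KB_le (k : PK p A θ q K L) (hB : B ≤ A) : KB B θ q ≤ K := Gen_le fun a b c => k.hO a (hB b) c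
theorem S3.nKB (h : S3 p A θ) (hB : B ≤ A) : A ≤ N[KB B θ q] := norm_Gen fun a b c => normO _ (h.inv a (hB b) c)
theorem siKB : SI B θ ≤ N[KB B θ q] := norm_Gen fun _ b c => (Comp.sigInf_le b c).trans (O_norm _ _)

theorem PK.prodB (k : PK p A θ q K L) (h : S3 p A θ) (hB : B ≤ A) (hi : B.relIndex A = p) :
    IsProd (KB B θ q) (K ⊓ L) K := by
  have := Comp.factor_of_centralizers (abelem_iff.1 (h.ab.of_le hB)) (h.hcard hB hi) k.fK.cop (hB.trans k.fK.inv)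
    (k.KB_le hB) (Y := K ⊓ L) inf_le_left (hB.trans (h.nKB hB)) (hB.trans (k.fK.inf k.fL.inv).inv)
    ((k.fK.inf_centralizer_le hB).trans siKB) fun a b c => Set.Subset.antisymm (fun x d => ?_) (by
      rintro _ ⟨x, d, y, e, rfl⟩
      exact ⟨mul_mem (k.KB_le hB d.1) e.1.1, mul_mem d.2 e.2⟩)
  · refine ⟨k.KB_le hB, inf_le_left, fun m d => ?_⟩
    obtain ⟨x, e, y, f, i⟩ := this.subset d
    exact ⟨x, e, y, f, i.symm⟩
  obtain ⟨o, e, l, f, rfl⟩ := (mem_sup_l (inf_le_left.trans (O_norm _ _))).1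
    (k.hF a (hB b) c (k.fK.loc a (hB b) c d))
  exact ⟨o, ⟨le_Gen (θ := fun a => O[{q}ᶜ](θ a)) b c e, h.le a (hB b) c (O_le _ _ e)⟩, l,
    ⟨⟨(mul_mem_cancel_left (k.hO a (hB b) c e)).1 d.1, f.2⟩, h.le a (hB b) c f.1⟩, rfl⟩

theorem PK.prodN (k : PK p A θ q K L) (h : S3 p A θ) (h1 : N ≤ L) (h2 : A ≤ N[N]) (h3 : K ⊓ L ≤ N[N]) :
    IsProd K N (K ⊔ N) := by
  have f := k.fL.of_le h1 h2
  refine isProd_of_PSt (h.hyp f fun B hB hi n a => mem_PSt fun x b => ?_)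
  obtain ⟨y, c, z, d, rfl⟩ := (k.prodB h hB hi).ex x b
  exact ⟨_, mul_mem (k.KB_le hB (conj_mem (siKB (f.inf_centralizer_le hB a)) c)) d.1, _, conj_mem' (h3 d) a.1, by group⟩

theorem PK.prod (k : PK p A θ q K L) (h : S3 p A θ) : IsProd K L (Gen A θ) := by
  have := k.prodN h le_rfl k.fL.inv (inf_le_right.trans (normG L))
  rwa [le_antisymm (sup_le (h.le_gen k.fK) (h.le_gen k.fL))
    (Gen_le fun a b c => (k.hF a b c).trans (sup_le_sup (k.hO a b c) inf_le_right))] at this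

end Cfsg.Agent.SFT
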