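import Cfsg.Agent.SFT.A
import Cfsg.Agent.S0627
import Cfsg.Agent.Char.Burnside
/-!
The solvable signalizer functor theorem, part 2: the local analysis, and the case of two primes.
-/
set_option autoImplicit false
set_option linter.unusedSectionVars false

namespace Cfsg.Agent.SFT
open Subgroup Cfsg.Agent.BG PHom
open Cfsg.Agent.Comp (SF Fam MaxQ)
open Cfsg.Agent.PLoc (WOf)

universe u
variable {G : Type u} [Group G] [Finite G] {A B H K L M N P Q R S T U V W X Y : Subgroup G} {a b c g : G} {p q r : ℕ}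
  {π : Set ℕ} {θ θ' : G → Subgroup G} [hp : Fact p.Prime] [hq : Fact q.Prime]

local notation "SI" => signalizerInf

theorem fratO2 (hP : Syl q P O2[{q}ᶜ, {q}](U)) : U ≤ O[{q}ᶜ](U) ⊔ U ⊓ N[P] :=
  (hP.frattini hq.out (O2_le _ _ _) (O2_norm _ _ _)).sup.ge.trans (sup_le (hP.prod_O2.sup.ge.trans
    (sup_le_sup_left (le_inf (hP.le.trans (O2_le _ _ _)) (normG P)) _)) le_sup_right)

theorem le_O_of_C (hs : Sol U) (hP : Syl q P O2[{q}ᶜ, {q}](U)) (h1 : X ≤ U) (h2 : X ≤ C[P]) (h3 : PiG {q}ᶜ X) :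
    X ≤ O[{q}ᶜ](U) :=
  h3.le_of_idx ((O2_le _ _ _).trans (O_norm _ _)) ((le_inf h1 h2).trans (C_syl_O2_le hs hP)) (PiN.compl_compl (OM_idx _ _ _))

theorem S3.g1 (h : S3 p A θ) (hU : Fam p A θ U) (hS : Syl q S U) (nS : A ≤ N[S]) (h0 : S ≠ ⊥) (hB : B ≤ A)
    (h1 : B ≠ ⊥) (hX : Fam p A θ X) (h2 : X ≤ C[B]) (h3 : X ≤ N[S])
    (hH : ∀ Y, Y ≠ ⊥ → Y ≤ S → S ⊔ A ⊔ X ≤ N[Y] → U ⊓ N[Y] ≤ H) : U ≤ O[{q}ᶜ](U) ⊔ H := by
  have a := hS.inf_norm' (O2_le {q}ᶜ {q} U) (O2_norm _ _ _)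
  have b := hU.inf (normN (normI nS (normO2 {q}ᶜ {q} hU.inv)))
  refine (fratO2 a).trans (sup_le_sup_left (Fac.push (hS.sub (le_inf hS.le (normI (normG S)
    (hS.le.trans (O2_norm _ _ _)))) inf_le_left) h0 inf_le_left inf_le_right (le_inf (OmZ_le _ _) ((le_inf
    ((OmZ_le _ _).trans hS.le) ((OmZ_cent _ _).trans (centS inf_le_left))).trans (C_syl_O2_le hU.solv a))) b.solv b.inv
    nS hX.inv h3 hB (h.pA.of_le hB) (famp b) (h.pA.of_le hB).sol (h.siC hB) (h.sigInf_fam hB h1).solv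
    (b.inf_centralizer_le hB) ((le_inf le_rfl h2).trans (hX.inf_centralizer_le hB)) fun Y c d e =>
      (inf_le_inf_right _ inf_le_left).trans (hH Y c d e)) _)

abbrev Gd (q : ℕ) (L U : Subgroup G) : Prop := U ≤ O[{q}ᶜ](U) ⊔ U ⊓ L

theorem Gd.prod (h : Gd q L U) : IsProd O[{q}ᶜ](U) (U ⊓ L) U :=
  isProd_of_l (inf_le_left.trans (O_norm _ _)) (le_antisymm (sup_le (O_le _ _) inf_le_left) h)

theorem Gd.np (h : Gd q L U) (h1 : Y ≤ U) (h2 : Y ≤ L) (h3 : PiG {q} Y) :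
    U ⊓ N[Y] ≤ O[{q}ᶜ](U) ⊓ N[Y] ⊔ U ⊓ L ⊓ N[Y] := fun u hu => by
  obtain ⟨o, a, l, b, rfl⟩ := h.prod.ex u hu.1
  have c := h1.trans (O_norm {q}ᶜ U)
  have e : cj l Y = cj o⁻¹ Y := by rw [eq_comm, cj_eq_iff, inv_inv, ← cj_mul, cj_of_mem_N hu.2]
  have d := (O_pig {q}ᶜ U).of_le (inf_le_left (b := L))
  obtain ⟨k, f, i⟩ := sz_sub (normI c (normsG h2)) (B := cj l Y) ((le_inf (e.le.trans (cj_le_of_mem le_sup_right
    (normsG le_sup_left (inv_mem a)))) (cj_le_of_mem h2 (normG L b.2))).trans (modr_l c h2).le) (h3.coprime d)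
    ((h3.cj l).coprime d) (.inl h3.sol)
  have j : k⁻¹ * l ∈ N[Y] := mem_N_of_cj_le (by rw [cj_mul]; exact le_cj_iff.1 i)
  rw [show o * l = o * k * (k⁻¹ * l) by group] at hu ⊢
  exact mul_mem_sup' ⟨mul_mem a f.1, (mul_mem_cancel_right j).1 hu.2⟩
    ⟨(U ⊓ L).mul_mem ((U ⊓ L).inv_mem ⟨O_le _ _ f.1, f.2⟩) b, j⟩

theorem S3.mq_in (h : S3 p A θ) (hQ : MQ p A θ q Q) (hL : Fam p A θ L) (h1 : Q ≤ L) (h2 : T ≤ L) (h3 : PiG {q} T)
    (h4 : A ≤ N[T]) : ∃ R, MQ p A θ q R ∧ R ≤ L ∧ T ≤ R := by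
  obtain ⟨R, a, b, c⟩ := h.syl hL h2 h3 h4
  obtain ⟨d, e, rfl⟩ := cop_syl_conj hL.inv (h.cp le_rfl hL) (.inr hL.solv) hq.out (h.mq_syl hQ hL h1) a hQ.mem.inv b
  exact ⟨_, h.mq_cj hQ (hL.inf_centralizer_le le_rfl e), a.le, c⟩

theorem norm_cj_C (h : A ≤ N[T]) (hc : c ∈ C[A]) : A ≤ N[cj c T] := cj_of_mem_C hc ▸ norm_cj.2 h

theorem MC.good (h : MC p A θ) (hL : Fam p A θ L)
    (G0 : ∀ Q U, MQ p A θ q Q → Q ≤ L → Fam p A θ U → Q ≤ U → Gd q L U) (S : Subgroup G) :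
    ∀ Y Q, MQ p A θ q Q → Q ≤ L → Y ≠ ⊥ → Y ≤ Q → A ≤ N[Y] → Q ⊓ N[Y] = S → Gd q L (Loc A θ N[Y]) := by
  induction S using gt_wf_ind with | _ S ih => ?_
  intro Y Q hQ QL Y0 YQ nY e
  have fU := h.locN (hQ.mem.of_le YQ nY) Y0
  by_cases c : Q ≤ N[Y]
  · exact G0 Q _ hQ QL fU (h.le_Loc hQ.mem c)
  have fS : Fam p A θ S := e ▸ hQ.mem.inf (normN nY)
  have SQ : S ≤ Q := e ▸ inf_le_left
  have SN : S ≤ N[Y] := e ▸ inf_le_right
  have YS : Y ≤ S := e ▸ le_inf YQ (normG Y)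
  have S0 : S ≠ ⊥ := fun d => Y0 (eq_bot_iff.2 (YS.trans d.le))
  have pS := hQ.pig.of_le SQ
  have lt := hQ.pig.nil.lt_norm (lt_of_le_of_ne SQ fun d => c (d.ge.trans SN))
  obtain ⟨S₁, s1, s2, s3⟩ := h.syl fU (h.le_Loc fS SN) pS fS.inv
  rcases s3.eq_or_lt with rfl | s3
  · have fN := hQ.mem.inf (normN fS.inv)
    obtain ⟨B, b1, b2, b3⟩ := Comp.exists_hyperplane_not_le h.elem h.ne fN.cop fN.inv lt.not_ge
    refine (h.g1 fU s1 s2 S0 b1 (h.hne b1 b2) (fN.inf (h.nC b1)) inf_le_right (inf_le_left.trans inf_le_right)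
      (H := O[{q}ᶜ](Loc A θ N[Y]) ⊔ Loc A θ N[Y] ⊓ L) fun Z z0 z1 z2 => ?_).trans (sup_le le_sup_left le_rfl)
    have nZ : A ≤ N[Z] := le_sup_right.trans (le_sup_left.trans z2)
    have sZ : S ≤ N[Z] := le_sup_left.trans (le_sup_left.trans z2)
    have fV := h.locN (fS.of_le z1 nZ) z0
    have sV := h.le_Loc fS sZ
    refine (le_inf (h.inf_le_Loc fU (normN nZ)) (inf_le_left.trans Loc_le)).trans (((ih _ (lt_of_le_of_ne (le_inf SQ sZ)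
      fun d => b3 ((le_inf (inf_le_left.trans inf_le_left) (le_sup_right.trans z2)).trans d.ge)) Z Q hQ QL z0
      (z1.trans SQ) nZ rfl).np (YS.trans sV) (YQ.trans QL) (pS.of_le YS)).trans (sup_le_sup (le_O_of_syl fU.solv s1
      (h.inf_le_Loc (S3.O fV _) (normN nY)) ((O_pig _ _).of_le inf_le_left) (normI (sV.trans (O_norm _ _)) (normsG SN)))
      (le_inf (h.inf_le_Loc (fV.inf hL.inv) (normN nY)) (inf_le_left.trans inf_le_right))))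
  have t := s1.pi.nil.lt_norm s3
  have fT := (fU.of_le s1.le s2).inf (normN fS.inv)
  have pT := s1.pi.of_le (inf_le_left (b := N[S]))
  have fV := h.locN fS S0
  have g := (ih _ lt S Q hQ QL S0 SQ fS.inv rfl).prod
  obtain ⟨R, r1, r2⟩ := h.syl0 (fV.inf hL.inv) q
  obtain ⟨T₁, t1, t2, t3⟩ := h.syl fV (h.le_Loc fT inf_le_right) pT fT.inv
  obtain ⟨x, x1, x2⟩ := cop_syl_conj fV.inv (h.cp le_rfl fV) (.inr fV.solv) hq.out t1
    (r1.trans' inf_le_left (g.symm.relIndex ▸ (O_pig _ _).relIndex _)) t2 r2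
  have fI := (fV.inf hL.inv).inf (S3.O fV {q}ᶜ).inv
  obtain ⟨l, l1, o, o1, rfl⟩ := (cop_mul_cent (fV.inf hL.inv).inv (S3.O fV _).inv g.symm (h.cp le_rfl fI)
    (.inr fI.solv)).ex x x1
  have oC : o ∈ C[S] := cent_symm (pS.cent (O_pig _ _) ((h.le_Loc fS (normG S)).trans (O_norm _ _))
    ((O_le _ _).trans Loc_le)) o1.1
  obtain ⟨Q', q1, q2, q3⟩ := h.mq_in hQ hL QL (T := cj o (S₁ ⊓ N[S])) ((cj_mono _ t3).trans (by
    rw [cj_mul, cj_eq_iff] at x2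
    exact x2.le.trans (cj_le_of_mem (r1.le.trans inf_le_right) (normG L (inv_mem l1.1.2))))) (pT.cj o)
    (norm_cj_C fT.inv o1.2)
  have w : S < cj o (S₁ ⊓ N[S]) := (cj_of_mem_C oC).ge.trans_lt (cj_lt_cj.2 t)
  exact ih _ (w.trans_le (le_inf q3 (cj_le_of_mem (inf_le_left.trans (s1.le.trans Loc_le))
    (normG _ (C_le_N _ (centS YS oC)))))) Y Q' q1 q2 Y0 (YS.trans (w.le.trans q3)) nY rfl

theorem MC.pk (h : MC p A θ) (hQ : MQ p A θ q Q) (h0 : Q ≠ ⊥) (hL : Fam p A θ L) (QL : Q ≤ L)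
    (G0 : ∀ Q U, MQ p A θ q Q → Q ≤ L → Fam p A θ U → Q ≤ U → Gd q L U) : ∃ K, PK p A θ q K L ∧ PiG {q}ᶜ K ∧
    ∀ X, Fam p A θ X → PiG {q}ᶜ X → Q ⊓ C[A] ≤ N[X] → X ≤ K := by
  obtain ⟨K, k1, k2, k3⟩ := h.exK hQ h0
  refine ⟨K, ⟨k1, hL, fun a b c => k3 _ (S3.O (h.fam b c) _) (O_pig _ _) ((inf_le_inf_left _ (C_le_C1 b)).trans
    ((hQ.mem.loc a b c).trans (O_norm _ _))), fun a b c => ?_⟩, k2, k3⟩
  have f := h.fam b c
  have s := (h.syl_theta hQ b c).inf_norm' (O2_le {q}ᶜ {q} _) (O2_norm _ _ _)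
  have n := normI (normI hQ.mem.inv (h.nC1 b)) (normO2 {q}ᶜ {q} f.inv)
  have i : Q ⊓ C1[a] ⊓ O2[{q}ᶜ, {q}](θ a) ≤ Q := inf_le_left.trans inf_le_left
  generalize Q ⊓ C1[a] ⊓ O2[{q}ᶜ, {q}](θ a) = Y at s n i
  by_cases e : Y = ⊥
  · subst e
    exact ((le_inf le_rfl (le_top.trans C_bot.ge)).trans (C_syl_O2_le f.solv s)).trans
      (s.prod_O2.sup.ge.trans (sup_le le_sup_left bot_le))
  have fY := hQ.mem.of_le i n
  have fU := h.locN fY e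
  have fO := S3.O fU {q}ᶜ
  refine (fratO2 s).trans (sup_le le_sup_left ((le_inf (h.inf_le_Loc f (normN n)) (inf_le_left.trans (h.le a b c))).trans
    ((h.mul_C1 fO (fU.inf hL.inv).inv (h.good hL G0 _ Y Q hQ QL e i n rfl).prod b).sup.ge.trans (sup_le_sup
    (le_O_of_C f.solv s (fO.loc a b c) (inf_le_left.trans (cent_symm (s.pi.cent (O_pig _ _)
      ((h.le_Loc fY (normG Y)).trans (O_norm _ _)) ((O_le _ _).trans Loc_le)))) ((O_pig _ _).of_le inf_le_left))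
    (le_inf ((fU.inf hL.inv).loc a b c) (inf_le_left.trans inf_le_right))))))

theorem W_fact (h5 : 5 ≤ q) (hs : Sol U) (hS : Syl q S U) : U ≤ O[{q}ᶜ](U) ⊔ U ⊓ N[WOf q S] := by
  obtain ⟨T, rfl⟩ := hS.exists_sylow hq.out
  have := congrArg (map U.subtype) (S0627.result h5 (PLoc.isPSolvable_of_isSolvable hs) T)
  rw [map_subtype_top, Subgroup.map_sup, pPrimeCore_map hq.out, PLoc.WOf_def] at this
  refine this.ge.trans (sup_le_sup_left (le_inf (map_subtype_le _) ?_) _)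
  rw [← PLoc.map_WOf fun x _ e => Subtype.ext e]
  exact norm_map le_rfl _

theorem sol_pq (hr : r.Prime) (h : PiG {q, r} M) : Sol M := by
  obtain ⟨a, b, e, c, d⟩ := exists_pi_split {q} (card_ne M)
  have n := card_ne M
  rw [e, mul_ne_zero_iff] at n
  obtain ⟨i, rfl⟩ := (pin_single hq.out n.1).1 c
  obtain ⟨j, rfl⟩ := (pin_single hr n.2).1 fun s f g => (h s f (e ▸ g.mul_left _)).resolve_left (d s f g)
  exact Char.isSolvable_of_card_dvd_pow_mul_pow hq.out hr M e.dvd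

variable [hr : Fact r.Prime]

theorem hall_pq (h : q ≠ r) (h1 : PiG {q, r} M) (h2 : Syl r R M) : Hall {q}ᶜ R M :=
  h2.congr fun s a b => ⟨fun c d => h (d.symm.trans c), fun c => (h1 s a b).resolve_left c⟩

theorem S3.pq (h : S3 p A θ) (n : q ≠ r) (hθ : ∀ a ∈ A, a ≠ 1 → PiG {q, r} (θ a)) (hQ : MQ p A θ q Q)
    (hR : MQ p A θ r R) (hU : Fam p A θ U) (h1 : Q ≤ U) : IsProd Q (R ⊓ U) U := by
  obtain ⟨c, a, b⟩ := h.exists_conj_sylow h.rk hR hU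
  replace b : Syl r (cj c R ⊓ U) U := (syl_iff hr.out).2 (Comp.sylIn_iff.1 b)
  obtain ⟨y, d, x, e, rfl⟩ := (Hall.prod (h.syl_inf hQ le_rfl h.ne) (hall_pq n (h.pig hθ (h.sigInf_fam le_rfl h.ne))
    (h.syl_inf hR le_rfl h.ne))).ex c a
  have := b.cj_mem (inv_mem (h1 d.1))
  rw [cj_inf, cj_mul, cj_inv_cj, cj_of_mem e.1, cj_of_mem (inv_mem (h1 d.1))] at this
  exact Hall.prod (h.mq_syl hQ hU h1) (hall_pq n (h.pig hθ hU) this)

theorem S3.join (h : S3 p A θ) (n : q ≠ r) (hθ : ∀ a ∈ A, a ≠ 1 → PiG {q, r} (θ a)) (hQ : MQ p A θ q Q)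
    (hU : Fam p A θ U) (hV : Fam p A θ V) (h1 : Q ≤ U) (h2 : Q ≤ V) : Fam p A θ (U ⊔ V) := by
  obtain ⟨R, -, hR⟩ := exists_MQ (q := r) (Fam.bot (p := p) (A := A) (θ := θ)) (pig_bot _)
  have a := h.pq n hθ hQ hR hU h1
  have b := h.pq n hθ hQ hR hV h2
  have c : ∀ {W}, IsProd Q (R ⊓ W) W → R ⊓ W ≤ R ⊓ U ⊔ R ⊓ V → R ⊓ W ≤ PSt Q (R ⊓ U ⊔ R ⊓ V) := fun d e g f =>
    mem_PSt fun k i => by
      obtain ⟨x, j, y, l, m⟩ := d.ex _ (mul_mem f.2 (d.left i))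
      exact ⟨x, j, y, e l, m⟩
  have d := isProd_of_PSt (sup_le (c a le_sup_left) (c b le_sup_right))
  have f := hR.mem.of_le (sup_le (inf_le_left (b := U)) (inf_le_left (b := V)))
    (normY (normI hR.mem.inv hU.inv) (normI hR.mem.inv hV.inv))
  exact (h.prod hQ.mem f d (sol_pq hr.out (d.pig (h.pig hθ hQ.mem) (h.pig hθ f)))).of_le (sup_le
    (a.sup.ge.trans (sup_le_sup_left le_sup_left _)) (b.sup.ge.trans (sup_le_sup_left le_sup_right _)))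
    (normY hU.inv hV.inv)

theorem MC.two (h : MC p A θ) (n : q ≠ r) (hθ : ∀ a ∈ A, a ≠ 1 → PiG {q, r} (θ a)) (hQ : MQ p A θ q Q) : Q = ⊥ := by
  by_contra h0
  obtain ⟨L, a, b, c⟩ := exists_maximal hQ.mem
  obtain ⟨K, k, -⟩ := h.pk hQ h0 b a fun Q' U d e f g => le_sup_of_le_right (le_inf le_rfl
    (le_sup_right.trans (c _ (h.join n hθ d b f e g) le_sup_left).le))
  have d := k.prod h.toS3
  exact h.nc (h.prod k.fK b d (sol_pq hr.out (d.pig (h.pig hθ k.fK) (h.pig hθ b))))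

end Cfsg.Agent.SFT
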